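import Cfsg.Agent.LargeExtra.KillPlus
import Cfsg.Agent.LargeExtra.KOne
import Cfsg.Agent.LargeExtra.Dickson

section


/-!
# Elements of odd order in `C(z)` (helper71, after helper915): `C_G(ρ) / ⟨ρ⟩` is again large extraspecial
-/

set_option autoImplicit false

namespace Cfsg.Agent.LargeExtra.TwoAQuot

open Cfsg.Agent.Co2Type.Quad Cfsg.Agent.LargeExtra.Base Cfsg.Agent.LargeExtra.Local
open Cfsg.Agent.LargeExtra.KillSiegel

variable {G : Type*} [Group G] {Q : Subgroup G} {z ρ : G} {m : ℕ}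

theorem pow_four (h : Large Q z) {x : G} (hx : x ∈ Q) : x ^ 4 = 1 := by
  have e : x ^ 4 = x * x * (x * x) := by
    rw [pow_succ, pow_succ, pow_succ, pow_one, mul_assoc (x * x)]
  rw [e]
  rcases h.sq x hx with h1 | h1
  · rw [h1, one_mul]
  · rw [h1]; exact h.z_sq

/-- an element with `x ^ 4 = 1 = x ^ m`, `m` odd, is trivial -/
theorem eq_one_of_pow {H : Type*} [Group H] {x : H} (hm : Odd m) (h4 : x ^ 4 = 1) (h1 : x ^ m = 1) :
    x = 1 := by
  have h2 : orderOf x ∣ 4 := orderOf_dvd_of_pow_eq_one h4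
  have h3 : orderOf x ∣ m := orderOf_dvd_of_pow_eq_one h1
  have hc : Nat.Coprime 4 m := by
    rw [show (4 : ℕ) = 2 ^ 2 by norm_num]
    exact Nat.Coprime.pow_left 2 (Nat.coprime_two_left.2 hm)
  have h5 : orderOf x ∣ Nat.gcd 4 m := Nat.dvd_gcd h2 h3
  rw [hc] at h5
  exact orderOf_eq_one_iff.1 (Nat.dvd_one.1 h5)

theorem eq_one_of_odd (h : Large Q z) (hm : Odd m) {x : G} (hx : x ∈ Q) (h1 : x ^ m = 1) : x = 1 :=
  eq_one_of_pow hm (pow_four h hx) h1

/-- `x ∈ Q` commutes with `ρ` as soon as its image is fixed -/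
theorem comm_of_fix (h : Large Q z) (hρz : ρ * z = z * ρ) (hm : Odd m) (hρ : ρ ^ m = 1) {x : G}
    (hx : ρ * x * ρ⁻¹ = x ∨ ρ * x * ρ⁻¹ = x * z) : ρ * x = x * ρ := by
  rcases hx with h1 | h1
  · rw [mul_inv_eq_iff_eq_mul] at h1; exact h1
  · have hzz : ρ * z * ρ⁻¹ = z := by rw [hρz]; group
    have h2 : ρ * (ρ * x * ρ⁻¹) * ρ⁻¹ = x := by
      rw [h1]
      calc ρ * (x * z) * ρ⁻¹ = (ρ * x * ρ⁻¹) * (ρ * z * ρ⁻¹) := by group
        _ = x * (z * z) := by rw [h1, hzz]; group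
        _ = x := by rw [h.z_sq, mul_one]
    have h3 : Commute (ρ * ρ) x := by
      have : ρ * ρ * x * (ρ * ρ)⁻¹ = x := by
        calc ρ * ρ * x * (ρ * ρ)⁻¹ = ρ * (ρ * x * ρ⁻¹) * ρ⁻¹ := by group
          _ = x := h2
      rw [mul_inv_eq_iff_eq_mul] at this
      exact this
    obtain ⟨k, hk⟩ := hm
    have h4 : ρ = (ρ * ρ) ^ (k + 1) := by
      calc ρ = ρ ^ m * ρ := by rw [hρ, one_mul]
        _ = (ρ * ρ) ^ (k + 1) := by
          rw [← pow_succ, hk, ← pow_two, ← pow_mul]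
          congr 1
    have h5 : Commute ((ρ * ρ) ^ (k + 1)) x := h3.pow_left _
    rw [← h4] at h5
    exact h5

/-- `C_Q(ρ)` is large: some element of `C_Q(ρ)` does not commute with a given `x ∈ C_Q(ρ) ∖ ⟨z⟩` -/
theorem exists_cent (h : Large Q z) (hρz : ρ * z = z * ρ) (hm : Odd m) (hρm : ρ ^ m = 1) {x : G}
    (hx : x ∈ Q) (hxρ : ρ * x = x * ρ) (hx1 : x ≠ 1) (hxz : x ≠ z) :
    ∃ y ∈ Q, ρ * y = y * ρ ∧ y * x = x * y * z := by
  set ρ' : Subgroup.centralizer ({z} : Set G) := ⟨ρ, Subgroup.mem_centralizer_singleton_iff.2 hρz⟩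
    with hρ'
  set f := h.act ρ' with hf
  have hfm : f ^ m = 1 := by
    have h1 : ρ' ^ m = 1 := Subtype.ext hρm
    rw [hf, ← map_pow, h1, map_one]
  obtain ⟨y, hy, hyx⟩ := exists_not_comm h hx hx1 hxz
  have hfx : f (h.pr ⟨x, hx⟩) = h.pr ⟨x, hx⟩ := by
    apply Base.Pair.act_pr_coe
    show ρ * x * ρ⁻¹ = x
    rw [hxρ]; group
  have hb : h.b (h.pr ⟨y, hy⟩) (h.pr ⟨x, hx⟩) = 1 := (h.b_pr_one _ _).2 hyx
  have hfb : ∀ v w, h.b (f v) (f w) = h.b v w := fun v w => h.b_act ρ' v w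
  set v := h.pr ⟨y, hy⟩ with hv
  have hbi : ∀ i : ℕ, h.b ((f ^ i) v) (h.pr ⟨x, hx⟩) = 1 := by
    intro i
    induction i with
    | zero => exact hb
    | succ n ih =>
      rw [pow_succ']
      show h.b (f ((f ^ n) v)) (h.pr ⟨x, hx⟩) = 1
      rw [← hfx, hfb]
      exact ih
  set w := ∑ i ∈ Finset.range m, (f ^ i) v with hw
  have hfw : f w = w := by
    have e1 : f w = ∑ i ∈ Finset.range m, (f ^ (i + 1)) v := by
      rw [hw, map_sum]
      apply Finset.sum_congr rfl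
      intro i _
      rw [pow_succ']
      rfl
    have e2 : ∑ i ∈ Finset.range (m + 1), (f ^ i) v = w + (f ^ m) v := by
      rw [Finset.sum_range_succ]
    have e3 : ∑ i ∈ Finset.range (m + 1), (f ^ i) v
        = ∑ i ∈ Finset.range m, (f ^ (i + 1)) v + (f ^ 0) v := by
      rw [Finset.sum_range_succ']
    have e4 : w + v = f w + v := by
      rw [e1]
      calc w + v = w + (f ^ m) v := by rw [hfm]; rfl
        _ = ∑ i ∈ Finset.range m, (f ^ (i + 1)) v + (f ^ 0) v := by rw [← e2, e3]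
        _ = _ := by rw [pow_zero]; rfl
    exact (add_right_cancel e4).symm
  have hbw : h.b w (h.pr ⟨x, hx⟩) = 1 := by
    rw [hw, map_sum, LinearMap.sum_apply]
    rw [Finset.sum_congr rfl (fun i _ => hbi i)]
    rw [Finset.sum_const, Finset.card_range, nsmul_eq_mul, mul_one]
    obtain ⟨k, hk⟩ := hm
    rw [hk]
    push_cast
    rw [show (2 : ZMod 2) = 0 from rfl, zero_mul, zero_add]
  obtain ⟨y', hy'⟩ := h.pr_surjective w
  have h4 : ρ * (y' : G) = y' * ρ := by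
    apply comm_of_fix h hρz hm hρm
    rw [← hy', h.act_pr, h.pr_eq_pr, h.conjQ_coe] at hfw
    exact hfw
  refine ⟨y', y'.2, h4, ?_⟩
  rw [← hy'] at hbw
  exact (h.b_pr_one y' ⟨x, hx⟩).1 hbw

/-! ### the quotient `C_G(ρ) / ⟨ρ⟩` -/

/-- `ρ` as an element of its centraliser -/
def rho (ρ : G) : Subgroup.centralizer ({ρ} : Set G) :=
  ⟨ρ, Subgroup.mem_centralizer_singleton_iff.2 rfl⟩

/-- the subgroup `⟨ρ⟩` of `C_G(ρ)` -/
def R (ρ : G) : Subgroup (Subgroup.centralizer ({ρ} : Set G)) := Subgroup.zpowers (rho ρ)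

theorem comm_rho (k : Subgroup.centralizer ({ρ} : Set G)) : k * rho ρ = rho ρ * k :=
  Subtype.ext (Subgroup.mem_centralizer_singleton_iff.1 k.2)

theorem comm_R {r : Subgroup.centralizer ({ρ} : Set G)} (hr : r ∈ R ρ)
    (k : Subgroup.centralizer ({ρ} : Set G)) : k * r = r * k := by
  obtain ⟨i, rfl⟩ := Subgroup.mem_zpowers_iff.1 hr
  exact (Commute.zpow_right (comm_rho k : Commute k (rho ρ)) i).eq

instance : (R ρ).Normal := ⟨fun r hr k => by rw [comm_R hr, mul_inv_cancel_right]; exact hr⟩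

theorem pow_R (hρ : ρ ^ m = 1) {r : Subgroup.centralizer ({ρ} : Set G)} (hr : r ∈ R ρ) :
    r ^ m = 1 := by
  obtain ⟨i, rfl⟩ := Subgroup.mem_zpowers_iff.1 hr
  have h1 : rho ρ ^ m = 1 := Subtype.ext hρ
  rw [← zpow_natCast, ← zpow_mul, mul_comm, zpow_mul, zpow_natCast, h1, one_zpow]

/-- the quotient group -/
abbrev KB (ρ : G) : Type _ := Subgroup.centralizer ({ρ} : Set G) ⧸ R ρ

def mk (ρ : G) : Subgroup.centralizer ({ρ} : Set G) →* KB ρ := QuotientGroup.mk' (R ρ)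

theorem mk_surjective : Function.Surjective (mk ρ) := QuotientGroup.mk'_surjective _

theorem mk_eq_one {k : Subgroup.centralizer ({ρ} : Set G)} : mk ρ k = 1 ↔ k ∈ R ρ :=
  QuotientGroup.eq_one_iff k

/-- the image of `Q` -/
def QB (Q : Subgroup G) (ρ : G) : Subgroup (KB ρ) :=
  (Q.subgroupOf (Subgroup.centralizer ({ρ} : Set G))).map (mk ρ)

theorem mem_QB {x : KB ρ} : x ∈ QB Q ρ ↔
    ∃ k : Subgroup.centralizer ({ρ} : Set G), (k : G) ∈ Q ∧ mk ρ k = x := Iff.rfl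

theorem one_of_mk (h : Large Q z) (hm : Odd m) (hρ : ρ ^ m = 1)
    {k : Subgroup.centralizer ({ρ} : Set G)} (hk : (k : G) ∈ Q) (h1 : mk ρ k = 1) : k = 1 := by
  have h2 := pow_R hρ (mk_eq_one.1 h1)
  apply Subtype.ext
  apply eq_one_of_odd h hm hk
  rw [← SubmonoidClass.coe_pow, h2]; rfl

theorem eq_of_mk (h : Large Q z) (hm : Odd m) (hρ : ρ ^ m = 1)
    {k k' : Subgroup.centralizer ({ρ} : Set G)}
    (hk : (k : G) ∈ Q) (hk' : (k' : G) ∈ Q) (h1 : mk ρ k = mk ρ k') : k = k' := by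
  have h2 : k'⁻¹ * k = 1 := by
    apply one_of_mk h hm hρ (Q.mul_mem (Q.inv_mem hk') hk)
    rw [map_mul, map_inv, h1, inv_mul_cancel]
  exact (inv_mul_eq_one.1 h2).symm

/-- `z` as an element of `C_G(ρ)` -/
def zK (hρz : ρ * z = z * ρ) : Subgroup.centralizer ({ρ} : Set G) :=
  ⟨z, Subgroup.mem_centralizer_singleton_iff.2 hρz.symm⟩

/-- commuting in the quotient, one factor an involution -/
theorem comm_of_mk (hm : Odd m) (hρ : ρ ^ m = 1) {k a : Subgroup.centralizer ({ρ} : Set G)}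
    (ha : a * a = 1) (h1 : mk ρ k * mk ρ a = mk ρ a * mk ρ k) : k * a = a * k := by
  set r := (a * k)⁻¹ * (k * a) with hr
  have hrR : r ∈ R ρ := by
    rw [← mk_eq_one, hr, map_mul, map_inv, map_mul, map_mul, h1, inv_mul_cancel]
  have h2 : k * a = a * k * r := by rw [hr]; group
  have h4 : k * a * k⁻¹ = a * r := by rw [h2, mul_assoc a k r, comm_R hrR k]; group
  have h5 : (k * a * k⁻¹) * (k * a * k⁻¹) = 1 := by
    calc (k * a * k⁻¹) * (k * a * k⁻¹) = k * (a * a) * k⁻¹ := by group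
      _ = 1 := by rw [ha]; group
  rw [h4] at h5
  have h6 : r * r = 1 := by
    calc r * r = (a * a) * (r * r) := by rw [ha, one_mul]
      _ = a * (a * r) * r := by group
      _ = a * (r * a) * r := by rw [comm_R hrR a]
      _ = a * r * (a * r) := by group
      _ = 1 := h5
  have h7 : r = 1 := by
    apply eq_one_of_pow hm _ (pow_R hρ hrR)
    rw [pow_succ, pow_succ, pow_succ, pow_one, h6, one_mul, h6]
  rw [h2, h7, mul_one]

/-- **`C_G(ρ)/⟨ρ⟩` is large.** -/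
theorem large (h : Large Q z) (hρz : ρ * z = z * ρ) (hm : Odd m) (hρ : ρ ^ m = 1)
    (hself : ∀ k, k * z = z * k → k * ρ = ρ * k →
      (∀ x ∈ Q, ρ * x = x * ρ → k * x = x * k) → ∃ r ∈ R ρ, k * (r : G) ∈ Q) :
    Large (QB Q ρ) (mk ρ (zK hρz)) where
  z_mem := ⟨zK hρz, h.z_mem, rfl⟩
  z_ne := by
    intro h1
    apply h.z_ne
    exact congrArg Subtype.val (one_of_mk h hm hρ (k := zK hρz) h.z_mem h1)
  z_sq := by
    rw [← map_mul, show zK hρz * zK hρz = 1 from Subtype.ext h.z_sq, map_one]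
  comm_z := by
    rintro _ ⟨k, hk, rfl⟩
    rw [← map_mul, ← map_mul]
    congr 1
    exact Subtype.ext (h.comm_z k hk)
  conj_mem := by
    intro g hg
    obtain ⟨k, rfl⟩ := mk_surjective g
    rintro _ ⟨x, hx, rfl⟩
    have h1 : k * zK hρz = zK hρz * k := comm_of_mk hm hρ (Subtype.ext h.z_sq) hg
    have h2 : (k : G) * z = z * k := congrArg Subtype.val h1
    refine ⟨k * x * k⁻¹, h.conj_mem k h2 x hx, ?_⟩
    rw [map_mul, map_mul, map_inv]
  sq := by
    rintro _ ⟨x, hx, rfl⟩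
    rcases h.sq x hx with h1 | h1
    · left
      rw [← map_mul, show x * x = 1 from Subtype.ext h1, map_one]
    · right
      rw [← map_mul]
      congr 1
      exact Subtype.ext h1
  comm := by
    rintro _ ⟨x, hx, rfl⟩ _ ⟨y, hy, rfl⟩
    rcases h.comm x hx y hy with h1 | h1
    · left
      rw [← map_mul, ← map_mul]
      congr 1
      exact Subtype.ext h1
    · right
      rw [← map_mul, ← map_mul, ← map_mul]
      congr 1
      exact Subtype.ext h1
  cent := by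
    rintro _ ⟨x, hx, rfl⟩ hc
    by_contra hcon
    push Not at hcon
    have hx1 : (x : G) ≠ 1 := fun h1 => hcon.1 (by rw [show x = 1 from Subtype.ext h1, map_one])
    have hxz : (x : G) ≠ z := fun h1 => hcon.2 (by
      rw [show x = zK hρz from Subtype.ext h1])
    obtain ⟨y, hy, hρy, hyx⟩ := exists_cent h hρz hm hρ hx
      (Subgroup.mem_centralizer_singleton_iff.1 x.2).symm hx1 hxz
    set y' : Subgroup.centralizer ({ρ} : Set G) :=
      ⟨y, Subgroup.mem_centralizer_singleton_iff.2 hρy.symm⟩ with hy'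
    have h1 := hc _ ⟨y', hy, rfl⟩
    rw [← map_mul, ← map_mul] at h1
    have h2 := eq_of_mk h hm hρ (Q.mul_mem hx hy) (Q.mul_mem hy hx) h1
    have h4 : (x : G) * y = y * x := congrArg Subtype.val h2
    have hyx' : y * (x : G) = x * y * z := hyx
    rw [hyx'] at h4
    exact h.z_ne (mul_eq_left.1 h4.symm)
  self := by
    intro g hg hc
    obtain ⟨k, rfl⟩ := mk_surjective g
    have h1 : k * zK hρz = zK hρz * k := comm_of_mk hm hρ (Subtype.ext h.z_sq) hg
    have h2 : (k : G) * z = z * k := congrArg Subtype.val h1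
    obtain ⟨r, hr, hkr⟩ := hself k h2 (Subgroup.mem_centralizer_singleton_iff.1 k.2) (by
      intro x hx hρx
      set x' : Subgroup.centralizer ({ρ} : Set G) :=
        ⟨x, Subgroup.mem_centralizer_singleton_iff.2 hρx.symm⟩ with hx'
      have h4 := hc _ ⟨x', hx, rfl⟩
      rw [← mul_inv_eq_iff_eq_mul, ← map_mul, ← map_inv, ← map_mul] at h4
      have h5 := eq_of_mk h hm hρ (h.conj_mem k h2 x hx) hx h4
      have h6 : (k : G) * x * (k : G)⁻¹ = x := congrArg Subtype.val h5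
      rw [mul_inv_eq_iff_eq_mul] at h6
      exact h6)
    refine ⟨k * r, hkr, ?_⟩
    rw [map_mul, mk_eq_one.2 hr, mul_one]

/-! ### fusion -/

/-- every involution of `Q ∖ ⟨z⟩` gives a pair with `|D̃| = 2` -/
def Fus (Q : Subgroup G) (z : G) : Prop :=
  ∀ x : Q, (x : G) * x = 1 → (x : G) ≠ 1 → (x : G) ≠ z →
    ∃ A, ∃ p : Pair Q z A x, ∀ v ∈ p.D, v = 0 ∨ v = p.va

theorem fus (h : Large Q z) (hρz : ρ * z = z * ρ) (hm : Odd m) (hρ : ρ ^ m = 1)
    (hL : Large (QB Q ρ) (mk ρ (zK hρz))) (hfus : Fus Q z) : Fus (QB Q ρ) (mk ρ (zK hρz)) := by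
  intro x hx hx1 hxz
  obtain ⟨x, hxQ⟩ := x
  obtain ⟨k, hk, rfl⟩ := hxQ
  have hkQ : (k : G) ∈ Q := hk
  have hkk : k * k = 1 := one_of_mk h hm hρ (Q.mul_mem hkQ hkQ) (by rw [map_mul]; exact hx)
  have hk1 : (k : G) ≠ 1 := fun h1 => hx1 (by
    show mk ρ k = 1
    rw [show k = 1 from Subtype.ext h1, map_one])
  have hkz : (k : G) ≠ z := fun h1 => hxz (by
    show mk ρ k = mk ρ (zK hρz)
    rw [show k = zK hρz from Subtype.ext h1])
  have hkρ : ρ * (k : G) = k * ρ := (Subgroup.mem_centralizer_singleton_iff.1 k.2).symm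
  obtain ⟨A, p, hD⟩ := hfus ⟨k, hkQ⟩ (congrArg Subtype.val hkk) hk1 hkz
  have p0 : Pair Q z A (k : G) := p
  obtain ⟨w1, hw1, hρw1, hw1k⟩ := exists_cent h hρz hm hρ hkQ hkρ hk1 hkz
  obtain ⟨w2, hw2, hρw2, hw2z⟩ := exists_cent p0.la hkρ hm hρ p0.z_mem hρz h.z_ne (Ne.symm hkz)
  have hw2z' : w2 * z ≠ z * w2 := by
    rw [hw2z]
    intro h1
    exact p0.la.z_ne (mul_eq_left.1 h1)
  obtain ⟨c1, -⟩ := KillEta.y_conj p0 hw2 hw2z'
  have hconj : (w1 * w2) * z * (w1 * w2)⁻¹ = k := by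
    have e1 : w1 * z * w1⁻¹ = z := by rw [h.comm_z w1 hw1]; group
    have e2 : w1 * k * w1⁻¹ = k * z := by
      rw [hw1k, mul_assoc (k : G) w1 z, h.comm_z w1 hw1]; group
    calc (w1 * w2) * z * (w1 * w2)⁻¹ = w1 * (w2 * z * w2⁻¹) * w1⁻¹ := by group
      _ = (w1 * z * w1⁻¹) * (w1 * k * w1⁻¹) := by rw [c1]; group
      _ = z * (k * z) := by rw [e1, e2]
      _ = k := by
        rw [h.comm_z k hkQ, ← mul_assoc, h.z_sq, one_mul]
  set g : Subgroup.centralizer ({ρ} : Set G) := ⟨w1 * w2,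
    Subgroup.mem_centralizer_singleton_iff.2 (by
      rw [mul_assoc, ← hρw2, ← mul_assoc, ← hρw1, mul_assoc])⟩ with hg
  have hgk : mk ρ g * mk ρ (zK hρz) * (mk ρ g)⁻¹ = mk ρ k := by
    rw [← map_mul, ← map_inv, ← map_mul]
    congr 1
    exact Subtype.ext hconj
  have p' : Pair (QB Q ρ) (mk ρ (zK hρz))
      ((QB Q ρ).map (MulAut.conj (mk ρ g)).toMonoidHom) (mk ρ k) := by
    have := pair_of_conj hL (g := mk ρ g) (by rw [hgk]; exact ⟨k, hk, rfl⟩) (by rw [hgk]; exact hxz)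
    rwa [hgk] at this
  refine ⟨_, p', ?_⟩
  intro v hv
  obtain ⟨⟨y, hyQ⟩, hy, rfl⟩ := hv
  obtain ⟨t, ht, hty⟩ := hyQ
  obtain ⟨s0, hs0, hs0y⟩ := hy
  obtain ⟨n, hn, rfl⟩ := hs0
  have htQ : (t : G) ∈ Q := ht
  have hnQ : (n : G) ∈ Q := hn
  have hty' : mk ρ g * mk ρ n * (mk ρ g)⁻¹ = y := hs0y
  set s := g * n * g⁻¹ with hs
  have hsA : (s : G) ∈ A := KillEta.conj_mem_of p0 hconj hnQ
  have hsm : mk ρ s = mk ρ t := by
    rw [hty, ← hty', hs, map_mul, map_mul, map_inv]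
  set r := s⁻¹ * t with hr
  have hrR : r ∈ R ρ := by rw [← mk_eq_one, hr, map_mul, map_inv, hsm, inv_mul_cancel]
  have hmsr : t = s * r := by rw [hr]; group
  have hr4 : r ^ 4 = 1 := by
    have h4 : t ^ 4 = 1 := Subtype.ext (by rw [SubmonoidClass.coe_pow]; exact pow_four h htQ)
    have h5 : s ^ 4 = 1 := Subtype.ext (by rw [SubmonoidClass.coe_pow]; exact pow_four p0.la hsA)
    have c : Commute s r := comm_R hrR s
    rw [hmsr, c.mul_pow, h5, one_mul] at h4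
    exact h4
  have hr1 : r = 1 := eq_one_of_pow hm hr4 (pow_R hρ hrR)
  have hms : t = s := by rw [hmsr, hr1, mul_one]
  have hmA : (t : G) ∈ A := by rw [hms]; exact hsA
  have hpr : ∀ (hyQ : y ∈ QB Q ρ), p'.lz.pr ⟨y, hyQ⟩ = 0 ∨ p'.lz.pr ⟨y, hyQ⟩ = p'.va := by
    intro hyQ
    rcases KillCommute.mem_D4 p0 hD htQ hmA with h1 | h1 | h1 | h1
    · left
      apply p'.lz.pr_eq_zero.2
      left
      show y = 1
      rw [← hty, show t = 1 from Subtype.ext h1, map_one]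
    · left
      apply p'.lz.pr_eq_zero.2
      right
      show y = mk ρ (zK hρz)
      rw [← hty, show t = zK hρz from Subtype.ext h1]
    · right
      apply p'.lz.pr_eq_pr.2
      left
      show y = mk ρ k
      rw [← hty, show t = k from Subtype.ext h1]
    · right
      apply p'.lz.pr_eq_pr.2
      right
      show y = mk ρ k * mk ρ (zK hρz)
      rw [← hty, ← map_mul, show t = k * zK hρz from Subtype.ext h1]
  exact hpr _

end Cfsg.Agent.LargeExtra.TwoAQuot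

end

section


/-!
# The quadratic space of `C_G(ρ) / ⟨ρ⟩` is the space of the fixed vectors of `ρ` (helper71)
-/

set_option autoImplicit false

namespace Cfsg.Agent.LargeExtra.TwoAEmb

open Cfsg.Agent.Co2Type.Quad Cfsg.Agent.LargeExtra.Base Cfsg.Agent.LargeExtra.Local
open Cfsg.Agent.LargeExtra.KillSiegel Cfsg.Agent.LargeExtra.TwoAQuot

section emb

variable {G : Type*} [Group G] {Q : Subgroup G} {z ρ : G} {m : ℕ}

/-- an element of `C_Q(ρ)` with given image -/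
noncomputable def pick (x : QB Q ρ) : Subgroup.centralizer ({ρ} : Set G) :=
  Classical.choose (mem_QB.1 x.2)

theorem pick_mem (x : QB Q ρ) : ((pick x : Subgroup.centralizer ({ρ} : Set G)) : G) ∈ Q :=
  (Classical.choose_spec (mem_QB.1 x.2)).1

theorem mk_pick (x : QB Q ρ) : mk ρ (pick x) = x := (Classical.choose_spec (mem_QB.1 x.2)).2

/-- an element of `QB` from an element of `C_Q(ρ)` -/
def im1 (k : Subgroup.centralizer ({ρ} : Set G)) (hk : (k : G) ∈ Q) : QB Q ρ :=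
  ⟨mk ρ k, mem_QB.2 ⟨k, hk, rfl⟩⟩

theorem exists_im1 (x : QB Q ρ) : ∃ (k : Subgroup.centralizer ({ρ} : Set G)) (hk : (k : G) ∈ Q),
    im1 k hk = x := ⟨pick x, pick_mem x, Subtype.ext (mk_pick x)⟩

/-- the embedding of the spaces, as a function -/
noncomputable def emb0 (h : Large Q z) (hρz : ρ * z = z * ρ)
    (hL : Large (QB Q ρ) (mk ρ (zK hρz))) (v : hL.V) : h.V :=
  h.pr ⟨pick (Function.surjInv hL.pr_surjective v), pick_mem _⟩

theorem emb0_pr (h : Large Q z) (hρz : ρ * z = z * ρ) (hm : Odd m) (hρ : ρ ^ m = 1)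
    (hL : Large (QB Q ρ) (mk ρ (zK hρz))) (k : Subgroup.centralizer ({ρ} : Set G))
    (hk : (k : G) ∈ Q) : emb0 h hρz hL (hL.pr (im1 k hk)) = h.pr ⟨k, hk⟩ := by
  set s := Function.surjInv hL.pr_surjective (hL.pr (im1 k hk)) with hs
  have h1 : hL.pr s = hL.pr (im1 k hk) := Function.surjInv_eq hL.pr_surjective _
  show h.pr ⟨pick s, pick_mem s⟩ = h.pr ⟨k, hk⟩
  rw [h.pr_eq_pr]
  rcases hL.pr_eq_pr.1 h1 with h2 | h2
  · left
    have h3 : mk ρ (pick s) = mk ρ k := by rw [mk_pick]; exact h2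
    show ((pick s : Subgroup.centralizer ({ρ} : Set G)) : G) = k
    exact congrArg Subtype.val (eq_of_mk h hm hρ (pick_mem s) hk h3)
  · right
    have h3 : mk ρ (pick s) = mk ρ (k * zK hρz) := by rw [mk_pick, map_mul]; exact h2
    show ((pick s : Subgroup.centralizer ({ρ} : Set G)) : G) = k * z
    exact congrArg Subtype.val (eq_of_mk h hm hρ (pick_mem s) (Q.mul_mem hk h.z_mem) h3)

/-- the embedding of the spaces -/
noncomputable def emb (h : Large Q z) (hρz : ρ * z = z * ρ) (hm : Odd m) (hρ : ρ ^ m = 1)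
    (hL : Large (QB Q ρ) (mk ρ (zK hρz))) : hL.V →ₗ[ZMod 2] h.V :=
  AddMonoidHom.toZModLinearMap 2
    ({ toFun := emb0 h hρz hL
       map_zero' := by
        have e : (0 : hL.V) = hL.pr (im1 1 Q.one_mem) := by
          rw [← hL.pr_one]
          congr 1
        rw [e, emb0_pr h hρz hm hρ hL]
        exact h.pr_one
       map_add' := by
        intro v w
        obtain ⟨x, rfl⟩ := hL.pr_surjective v
        obtain ⟨y, rfl⟩ := hL.pr_surjective w
        obtain ⟨k, hk, rfl⟩ := exists_im1 x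
        obtain ⟨l, hl, rfl⟩ := exists_im1 y
        rw [← hL.pr_mul]
        have e : im1 k hk * im1 l hl = im1 (k * l) (Q.mul_mem hk hl) :=
          Subtype.ext (map_mul (mk ρ) k l).symm
        rw [e, emb0_pr h hρz hm hρ hL, emb0_pr h hρz hm hρ hL, emb0_pr h hρz hm hρ hL]
        exact h.pr_mul ⟨k, hk⟩ ⟨l, hl⟩ } : hL.V →+ h.V)

theorem emb_pr (h : Large Q z) (hρz : ρ * z = z * ρ) (hm : Odd m) (hρ : ρ ^ m = 1)
    (hL : Large (QB Q ρ) (mk ρ (zK hρz))) (k : Subgroup.centralizer ({ρ} : Set G))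
    (hk : (k : G) ∈ Q) : emb h hρz hm hρ hL (hL.pr (im1 k hk)) = h.pr ⟨k, hk⟩ :=
  emb0_pr h hρz hm hρ hL k hk

theorem exists_pr (hρz : ρ * z = z * ρ) (hL : Large (QB Q ρ) (mk ρ (zK hρz))) (v : hL.V) :
    ∃ (k : Subgroup.centralizer ({ρ} : Set G)) (hk : (k : G) ∈ Q), hL.pr (im1 k hk) = v := by
  obtain ⟨x, rfl⟩ := hL.pr_surjective v
  obtain ⟨k, hk, rfl⟩ := exists_im1 x
  exact ⟨k, hk, rfl⟩

theorem emb_injective (h : Large Q z) (hρz : ρ * z = z * ρ) (hm : Odd m) (hρ : ρ ^ m = 1)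
    (hL : Large (QB Q ρ) (mk ρ (zK hρz))) : Function.Injective (emb h hρz hm hρ hL) := by
  rw [injective_iff_map_eq_zero]
  intro v hv
  obtain ⟨k, hk, rfl⟩ := exists_pr hρz hL v
  rw [emb_pr, h.pr_eq_zero] at hv
  rw [hL.pr_eq_zero]
  rcases hv with h1 | h1
  · left
    show mk ρ k = 1
    rw [show k = 1 from Subtype.ext h1, map_one]
  · right
    show mk ρ k = mk ρ (zK hρz)
    rw [show k = zK hρz from Subtype.ext h1]

theorem q_emb (h : Large Q z) (hρz : ρ * z = z * ρ) (hm : Odd m) (hρ : ρ ^ m = 1)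
    (hL : Large (QB Q ρ) (mk ρ (zK hρz))) (v : hL.V) : h.q (emb h hρz hm hρ hL v) = hL.q v := by
  obtain ⟨k, hk, rfl⟩ := exists_pr hρz hL v
  rw [emb_pr]
  rcases h.sq k hk with h1 | h1
  · rw [h.q_eq_zero.2 h1, hL.q_eq_zero.2]
    show mk ρ k * mk ρ k = 1
    rw [← map_mul, show k * k = 1 from Subtype.ext h1, map_one]
  · rw [h.q_eq_one.2 h1, hL.q_eq_one.2]
    show mk ρ k * mk ρ k = mk ρ (zK hρz)
    rw [← map_mul, show k * k = zK hρz from Subtype.ext h1]

theorem b_emb (h : Large Q z) (hρz : ρ * z = z * ρ) (hm : Odd m) (hρ : ρ ^ m = 1)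
    (hL : Large (QB Q ρ) (mk ρ (zK hρz))) (v w : hL.V) :
    h.b (emb h hρz hm hρ hL v) (emb h hρz hm hρ hL w) = hL.b v w := by
  have h1 := h.q_add' (emb h hρz hm hρ hL v) (emb h hρz hm hρ hL w)
  rw [← map_add, q_emb, q_emb, q_emb, hL.q_add'] at h1
  exact (add_left_cancel h1).symm

/-- the action of `C(z) ∩ C(ρ)` -/
theorem emb_act (h : Large Q z) (hρz : ρ * z = z * ρ) (hm : Odd m) (hρ : ρ ^ m = 1)
    (hL : Large (QB Q ρ) (mk ρ (zK hρz))) (k : Subgroup.centralizer ({ρ} : Set G))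
    (hkz : (k : G) ∈ Subgroup.centralizer ({z} : Set G))
    (hkz' : mk ρ k ∈ Subgroup.centralizer ({mk ρ (zK hρz)} : Set (KB ρ))) (v : hL.V) :
    emb h hρz hm hρ hL (hL.act ⟨mk ρ k, hkz'⟩ v) = h.act ⟨k, hkz⟩ (emb h hρz hm hρ hL v) := by
  obtain ⟨t, ht, rfl⟩ := exists_pr hρz hL v
  have hk : (k : G) * z = z * k := Subgroup.mem_centralizer_singleton_iff.1 hkz
  rw [hL.act_pr, emb_pr, h.act_pr]
  have e : hL.conjQ ⟨mk ρ k, hkz'⟩ (im1 t ht) = im1 (k * t * k⁻¹) (h.conj_mem k hk t ht) := by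
    apply Subtype.ext
    show mk ρ k * mk ρ t * (mk ρ k)⁻¹ = mk ρ (k * t * k⁻¹)
    rw [map_mul, map_mul, map_inv]
  rw [e, emb_pr]
  rfl

/-- the image consists of the fixed vectors -/
theorem exists_emb (h : Large Q z) (hρz : ρ * z = z * ρ) (hm : Odd m) (hρ : ρ ^ m = 1)
    (hL : Large (QB Q ρ) (mk ρ (zK hρz))) (v : h.V)
    (hv : h.act ⟨ρ, Subgroup.mem_centralizer_singleton_iff.2 hρz⟩ v = v) :
    ∃ w, emb h hρz hm hρ hL w = v := by
  obtain ⟨x, rfl⟩ := h.pr_surjective v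
  rw [h.act_pr, h.pr_eq_pr, h.conjQ_coe] at hv
  have h1 : ρ * (x : G) = x * ρ := comm_of_fix h hρz hm hρ hv
  exact ⟨hL.pr (im1 ⟨x, Subgroup.mem_centralizer_singleton_iff.2 h1.symm⟩ x.2), by rw [emb_pr]⟩

theorem act_emb (h : Large Q z) (hρz : ρ * z = z * ρ) (hm : Odd m) (hρ : ρ ^ m = 1)
    (hL : Large (QB Q ρ) (mk ρ (zK hρz))) (v : hL.V) :
    h.act ⟨ρ, Subgroup.mem_centralizer_singleton_iff.2 hρz⟩ (emb h hρz hm hρ hL v)
      = emb h hρz hm hρ hL v := by
  obtain ⟨t, ht, rfl⟩ := exists_pr hρz hL v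
  rw [emb_pr]
  apply Base.Pair.act_pr_coe
  show ρ * (t : G) * ρ⁻¹ = t
  rw [← (Subgroup.mem_centralizer_singleton_iff.1 t.2)]; group

end emb

/-! ### products of two reflections -/

section RR

variable {G : Type*} [Group G] {Q : Subgroup G} {z ρ : G} {m : ℕ}

/-- the transvection with centre `u` (a reflection if `q u = 1`) -/
noncomputable def tr (h : Large Q z) (u x : h.V) : h.V := x + h.b u x • u

/-- every product of two reflections comes from `C(z)` -/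
def RR (h : Large Q z) : Prop := ∀ u v : h.V, h.q u = 1 → h.q v = 1 →
  ∃ c : Subgroup.centralizer ({z} : Set G), ∀ x, h.act c x = tr h u (tr h v x)

theorem act_tr (h : Large Q z) (c : Subgroup.centralizer ({z} : Set G)) {u : h.V}
    (hu : h.act c u = u) (x : h.V) : h.act c (tr h u x) = tr h u (h.act c x) := by
  have hb : h.b u (h.act c x) = h.b u x := by
    have := h.b_act c u x
    rwa [hu] at this
  rw [tr, tr, map_add, map_smul, hu, hb]

theorem emb_tr (h : Large Q z) (hρz : ρ * z = z * ρ) (hm : Odd m) (hρ : ρ ^ m = 1)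
    (hL : Large (QB Q ρ) (mk ρ (zK hρz))) (u x : hL.V) :
    emb h hρz hm hρ hL (tr hL u x) = tr h (emb h hρz hm hρ hL u) (emb h hρz hm hρ hL x) := by
  rw [tr, tr, map_add, map_smul, b_emb]

/-- an element commuting with `ρ` modulo `Q` can be corrected by an element of `Q`, `ρ` of prime order -/
theorem exists_correct [Finite G] (h : Large Q z) (hρz : ρ * z = z * ρ) {p : ℕ} (hp : p.Prime)
    (hp2 : Odd p) (hρ : ρ ^ p = 1) {c : G} (hc : c⁻¹ * ρ * c * ρ⁻¹ ∈ Q) :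
    ∃ y ∈ Q, (c * y) * ρ = ρ * (c * y) := by
  classical
  have hfp : Fact p.Prime := ⟨hp⟩
  have hft : Fintype Q := Fintype.ofFinite Q
  have hρm : ∀ y ∈ Q, ρ * y * ρ⁻¹ ∈ Q := fun y hy => h.conj_mem ρ hρz y hy
  have hρz' : ρ⁻¹ * z = z * ρ⁻¹ := by
    rw [inv_mul_eq_iff_eq_mul, ← mul_assoc, hρz, mul_assoc, mul_inv_cancel, mul_one]
  have hρi : ∀ y ∈ Q, ρ⁻¹ * y * ρ ∈ Q := by
    intro y hy
    have := h.conj_mem ρ⁻¹ hρz' y hy
    rwa [inv_inv] at this
  set r := c⁻¹ * ρ * c with hr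
  have e1 : ∀ y : G, r * y * ρ⁻¹ = (r * ρ⁻¹) * (ρ * y * ρ⁻¹) := by intro y; group
  have e2 : ∀ y : G, r⁻¹ * y * ρ = ρ⁻¹ * ((r * ρ⁻¹)⁻¹ * y) * ρ := by intro y; group
  have m1 : ∀ y ∈ Q, r * y * ρ⁻¹ ∈ Q := by
    intro y hy
    rw [e1]
    exact Q.mul_mem hc (hρm y hy)
  have m2 : ∀ y ∈ Q, r⁻¹ * y * ρ ∈ Q := by
    intro y hy
    rw [e2]
    exact hρi _ (Q.mul_mem (Q.inv_mem hc) hy)
  let σ : Equiv.Perm Q :=
    { toFun := fun y => ⟨r * y * ρ⁻¹, m1 y y.2⟩
      invFun := fun y => ⟨r⁻¹ * y * ρ, m2 y y.2⟩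
      left_inv := fun y => Subtype.ext (by
        show r⁻¹ * (r * y * ρ⁻¹) * ρ = y
        group)
      right_inv := fun y => Subtype.ext (by
        show r * (r⁻¹ * y * ρ) * ρ⁻¹ = y
        group) }
  have hσi : ∀ (i : ℕ) (y : Q), (((σ ^ i) y : Q) : G) = r ^ i * y * (ρ⁻¹) ^ i := by
    intro i
    induction i with
    | zero => intro y; simp
    | succ n ih =>
      intro y
      rw [pow_succ']
      show r * (((σ ^ n) y : Q) : G) * ρ⁻¹ = _
      rw [ih, pow_succ', pow_succ]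
      simp only [mul_assoc]
  have hrp : r ^ p = 1 := by
    have : r = c⁻¹ * ρ * (c⁻¹)⁻¹ := by rw [hr, inv_inv]
    rw [this, conj_pow, hρ, mul_one, mul_inv_cancel]
  have hσ : σ ^ p ^ 1 = 1 := by
    rw [pow_one]
    ext y
    rw [hσi, hrp, one_mul, inv_pow, hρ, inv_one, mul_one]
    rfl
  have hnd : ¬ p ∣ Fintype.card Q := by
    obtain ⟨n, hn⟩ := IsPGroup.iff_card.1 (isPGroup h)
    rw [← Nat.card_eq_fintype_card, hn]
    intro hd
    have h1 := (Nat.prime_dvd_prime_iff_eq hp Nat.prime_two).1 (hp.dvd_of_dvd_pow hd)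
    rw [h1] at hp2
    exact absurd hp2 (by decide)
  obtain ⟨y, hy⟩ := Equiv.Perm.exists_fixed_point_of_prime hnd hσ
  refine ⟨y, y.2, ?_⟩
  have h1 : r * (y : G) * ρ⁻¹ = y := congrArg Subtype.val hy
  rw [mul_inv_eq_iff_eq_mul] at h1
  rw [mul_assoc, ← h1, hr]
  group

/-- (RR) goes to the quotient -/
theorem rr [Finite G] (h : Large Q z) (hρz : ρ * z = z * ρ) {p : ℕ} (hp : p.Prime) (hp2 : Odd p)
    (hρ : ρ ^ p = 1) (hL : Large (QB Q ρ) (mk ρ (zK hρz))) (hR : RR h) : RR hL := by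
  intro u v hu hv
  set ρ' : Subgroup.centralizer ({z} : Set G) := ⟨ρ, Subgroup.mem_centralizer_singleton_iff.2 hρz⟩
    with hρ'
  set j := emb h hρz hp2 hρ hL with hj
  obtain ⟨c, hc⟩ := hR (j u) (j v) (by rw [hj, q_emb, hu]) (by rw [hj, q_emb, hv])
  have hcz : (c : G) * z = z * c := Subgroup.mem_centralizer_singleton_iff.1 c.2
  have hju : h.act ρ' (j u) = j u := act_emb h hρz hp2 hρ hL u
  have hjv : h.act ρ' (j v) = j v := act_emb h hρz hp2 hρ hL v
  have hcomm : h.act ρ' * h.act c = h.act c * h.act ρ' := by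
    ext x
    show h.act ρ' (h.act c x) = h.act c (h.act ρ' x)
    rw [hc, hc, act_tr h ρ' hju, act_tr h ρ' hjv]
  have hmem : (c : G)⁻¹ * ρ * c * ρ⁻¹ ∈ Q := by
    have h1 : h.act (c⁻¹ * ρ' * c * ρ'⁻¹) = 1 := by
      rw [map_mul, map_mul, map_mul, map_inv, map_inv, mul_assoc (h.act c)⁻¹, hcomm]
      group
    exact h.mem_of_act _ h1
  obtain ⟨y, hy, hyρ⟩ := exists_correct h hρz hp hp2 hρ hmem
  have hyz : y * z = z * y := h.comm_z y hy
  have hkz : (c : G) * y * z = z * (c * y) := by rw [mul_assoc, hyz, ← mul_assoc, hcz, mul_assoc]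
  set k : Subgroup.centralizer ({ρ} : Set G) :=
    ⟨c * y, Subgroup.mem_centralizer_singleton_iff.2 hyρ⟩ with hk
  have hkz1 : (k : G) ∈ Subgroup.centralizer ({z} : Set G) :=
    Subgroup.mem_centralizer_singleton_iff.2 hkz
  have hkz2 : mk ρ k ∈ Subgroup.centralizer ({mk ρ (zK hρz)} : Set (KB ρ)) := by
    rw [Subgroup.mem_centralizer_singleton_iff, ← map_mul, ← map_mul]
    congr 1
    exact Subtype.ext hkz
  refine ⟨⟨mk ρ k, hkz2⟩, fun x => ?_⟩
  apply emb_injective h hρz hp2 hρ hL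
  rw [emb_act h hρz hp2 hρ hL k hkz1 hkz2, emb_tr, emb_tr]
  have e : (⟨k, hkz1⟩ : Subgroup.centralizer ({z} : Set G)) =
      c * ⟨y, Subgroup.mem_centralizer_singleton_iff.2 hyz⟩ := Subtype.ext rfl
  rw [e, map_mul, h.act_mem ⟨y, _⟩ hy, mul_one]
  exact hc _

end RR

/-! ### the abstract quotient -/

section main

universe u

variable {G : Type u} [Group G] {Q : Subgroup G} {z : G}

/-- **The reduction step.** `c ∈ C(z)` acts on `V` with order 3 or 5, and its powers are the only isometries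
that commute with it and are trivial on its fixed vectors: then the space of its fixed vectors belongs to
another large extraspecial subgroup with the same properties. -/
theorem exists_quot [Finite G] (h : Large Q z) (hF : Fus Q z) (hR : RR h)
    (c : Subgroup.centralizer ({z} : Set G)) {p : ℕ} (hp : p = 3 ∨ p = 5) (hcp : h.act c ^ p = 1)
    (hself : ∀ g : h.V ≃ₗ[ZMod 2] h.V, (∀ x, h.q (g x) = h.q x) →
      (∀ x, g (h.act c x) = h.act c (g x)) → (∀ w, h.act c w = w → g w = w) →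
      ∃ i : ℕ, g = h.act c ^ i) :
    ∃ (G' : Type u) (_ : Group G') (_ : Finite G') (Q' : Subgroup G') (z' : G')
      (h' : Large Q' z') (j : h'.V →ₗ[ZMod 2] h.V), Fus Q' z' ∧ RR h' ∧ Function.Injective j ∧
      (∀ x, h.q (j x) = h'.q x) ∧ (∀ x y, h.b (j x) (j y) = h'.b x y) ∧
      (∀ y, h.act c y = y ↔ ∃ x, j x = y) := by
  have hpp : p.Prime := by rcases hp with rfl | rfl <;> decide
  have hpo : Odd p := by rcases hp with rfl | rfl <;> decide
  set ρ' : Subgroup.centralizer ({z} : Set G) := c ^ 16 with hρ'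
  set ρ : G := (ρ' : G) with hρ
  have hρz : ρ * z = z * ρ := Subgroup.mem_centralizer_singleton_iff.1 ρ'.2
  have hcpQ : ((c ^ p : Subgroup.centralizer ({z} : Set G)) : G) ∈ Q := by
    apply h.mem_of_act
    rw [map_pow, hcp]
  have hρp : ρ ^ p = 1 := by
    have h4 := pow_four h hcpQ
    have e : ρ ^ p = (((c ^ p : Subgroup.centralizer ({z} : Set G)) : G) ^ 4) ^ 4 := by
      rw [hρ, hρ', SubmonoidClass.coe_pow, SubmonoidClass.coe_pow, ← pow_mul, ← pow_mul, ← pow_mul]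
      congr 1
      ring
    rw [e, h4, one_pow]
  have hact : h.act ρ' = h.act c := by
    rw [hρ', map_pow]
    rcases hp with rfl | rfl
    · rw [show (16 : ℕ) = 3 * 5 + 1 by norm_num, pow_add, pow_mul, hcp, one_pow, one_mul, pow_one]
    · rw [show (16 : ℕ) = 5 * 3 + 1 by norm_num, pow_add, pow_mul, hcp, one_pow, one_mul, pow_one]
  have hρρ : (⟨ρ, Subgroup.mem_centralizer_singleton_iff.2 hρz⟩ :
      Subgroup.centralizer ({z} : Set G)) = ρ' := Subtype.ext rfl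
  have hL : Large (QB Q ρ) (mk ρ (zK hρz)) := by
    apply TwoAQuot.large h hρz hpo hρp
    intro k hkz hkρ hk
    set k' : Subgroup.centralizer ({z} : Set G) := ⟨k, Subgroup.mem_centralizer_singleton_iff.2 hkz⟩
      with hk'
    obtain ⟨i, hi⟩ := hself (h.act k') (fun x => h.q_act k' x) (by
      intro x
      have hkk : k' * ρ' = ρ' * k' := Subtype.ext hkρ
      have := congrArg h.act hkk
      rw [map_mul, map_mul, hact] at this
      exact congrArg (fun g : h.V ≃ₗ[ZMod 2] h.V => g x) this) (by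
      intro w hw
      obtain ⟨x, rfl⟩ := h.pr_surjective w
      rw [← hact, h.act_pr, h.pr_eq_pr, h.conjQ_coe] at hw
      have h1 : ρ * (x : G) = x * ρ := comm_of_fix h hρz hpo hρp hw
      apply Base.Pair.act_pr_coe
      show k * (x : G) * k⁻¹ = x
      rw [hk x x.2 h1]; group)
    have hmem2 : ((k' * (ρ' ^ i)⁻¹ : Subgroup.centralizer ({z} : Set G)) : G) ∈ Q := by
      apply h.mem_of_act
      rw [map_mul, map_inv, map_pow, hact, mul_inv_eq_one]
      exact hi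
    refine ⟨(rho ρ ^ i)⁻¹, Subgroup.inv_mem _ (Subgroup.pow_mem _ (Subgroup.mem_zpowers _) i), ?_⟩
    have e : (((rho ρ ^ i)⁻¹ : Subgroup.centralizer ({ρ} : Set G)) : G) = ((ρ' ^ i)⁻¹ :
        Subgroup.centralizer ({z} : Set G)) := by
      rw [InvMemClass.coe_inv, SubmonoidClass.coe_pow, InvMemClass.coe_inv, SubmonoidClass.coe_pow]
      rfl
    rw [e]
    exact hmem2
  refine ⟨KB ρ, inferInstance, inferInstance, QB Q ρ, mk ρ (zK hρz), hL, emb h hρz hpo hρp hL,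
    TwoAQuot.fus h hρz hpo hρp hL hF, rr h hρz hpp hpo hρp hL hR, emb_injective h hρz hpo hρp hL,
    q_emb h hρz hpo hρp hL, b_emb h hρz hpo hρp hL, fun y => ⟨fun hy => ?_, ?_⟩⟩
  · apply exists_emb h hρz hpo hρp hL
    rw [hρρ, hact]
    exact hy
  · rintro ⟨x, rfl⟩
    have := act_emb h hρz hpo hρp hL x
    rwa [hρρ, hact] at this

end main

end Cfsg.Agent.LargeExtra.TwoAEmb

end

section


/-!
# The two reduction steps: an anisotropic plane, a four-space of minus type (helper71)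
-/

set_option autoImplicit false
set_option linter.unusedSimpArgs false
set_option linter.unusedVariables false

namespace Cfsg.Agent.LargeExtra.TwoAChain

open Cfsg.Agent.Co2Type.Quad Cfsg.Agent.LargeExtra.Base Cfsg.Agent.LargeExtra.Local
open Cfsg.Agent.LargeExtra.KillSiegel Cfsg.Agent.LargeExtra.TwoAQuot Cfsg.Agent.LargeExtra.TwoAEmb

universe u

/-- what the reduction gives: the perpendicular space of the `u i` belongs to another large subgroup -/
def Red {G : Type u} [Group G] {Q : Subgroup G} {z : G} (h : Large Q z) (P : h.V → Prop) : Prop :=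
  ∃ (G' : Type u) (_ : Group G') (_ : Finite G') (Q' : Subgroup G') (z' : G')
      (h' : Large Q' z') (j : h'.V →ₗ[ZMod 2] h.V), Fus Q' z' ∧ RR h' ∧ Function.Injective j ∧
      (∀ x, h.q (j x) = h'.q x) ∧ (∀ x y, h.b (j x) (j y) = h'.b x y) ∧
      (∀ y, P y ↔ ∃ x, j x = y)

section two

variable {G : Type u} [Group G] {Q : Subgroup G} {z : G}

/-- step with an element of order 3 -/
theorem red_two [Finite G] (h : Large Q z) (hF : Fus Q z) (hR : RR h) {u v : h.V}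
    (qu : h.q u = 1) (qv : h.q v = 1) (buv : h.b u v = 1) :
    Red h (fun y => h.b u y = 0 ∧ h.b v y = 0) := by
  obtain ⟨c, hc⟩ := hR u v qu qv
  have hrot : KOne.Rot h (h.act c) u v := by
    refine ⟨qu, qv, buv, fun x => ?_⟩
    rw [hc, tr, tr, map_add, map_smul, buv, smul_eq_mul, mul_one]
  have hf3 : h.act c ^ 3 = 1 := by
    ext x
    rw [pow_succ, pow_succ, pow_one]
    exact hrot.cube x
  have hfix : ∀ x, h.act c x = x ↔ h.b u x = 0 ∧ h.b v x = 0 := by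
    intro x
    constructor
    · intro e
      rw [hrot.eq] at e
      have hvu : h.b v u = 1 := by rw [h.b_comm]; exact buv
      have e1 := congrArg (h.b u) e
      have e2 := congrArg (h.b v) e
      rw [map_add, map_add, map_smul, map_smul, h.b_self, buv, smul_zero, add_zero, smul_eq_mul,
        mul_one] at e1
      rw [map_add, map_add, map_smul, map_smul, h.b_self, hvu, smul_zero, add_zero, smul_eq_mul,
        mul_one] at e2
      have e1' : h.b v x = 0 := by simpa using e1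
      rw [e1'] at e2
      refine ⟨?_, e1'⟩
      simpa using e2
    · rintro ⟨h1, h2⟩
      exact hrot.fw h1 h2
  obtain ⟨G', i1, i2, Q', z', h', j, h1, h2, h3, h4, h5, h6⟩ :=
    exists_quot h hF hR c (Or.inl rfl) hf3 (by
      intro g hq hg hw
      obtain ⟨i, hi⟩ := hrot.eq_pow (g := g) (fun x y => KillSiegel.isom_b h hq x y) hg
        (fun w h1 h2 => hw w ((hfix w).2 ⟨h1, h2⟩))
      exact ⟨i, by ext x; exact hi x⟩)
  exact ⟨G', i1, i2, Q', z', h', j, h1, h2, h3, h4, h5, fun y => by rw [← h6, hfix]⟩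

end two

/-! ### four reflections -/

/-- an `A_4`-chain of nonsingular vectors -/
structure Chain {G : Type*} [Group G] {Q : Subgroup G} {z : G} (h : Large Q z)
    (u1 u2 u3 u4 : h.V) : Prop where
  q1 : h.q u1 = 1
  q2 : h.q u2 = 1
  q3 : h.q u3 = 1
  q4 : h.q u4 = 1
  b12 : h.b u1 u2 = 1
  b23 : h.b u2 u3 = 1
  b34 : h.b u3 u4 = 1
  b13 : h.b u1 u3 = 0
  b14 : h.b u1 u4 = 0
  b24 : h.b u2 u4 = 0

namespace Chain

variable {G : Type*} [Group G] {Q : Subgroup G} {z : G} {h : Large Q z} {u1 u2 u3 u4 : h.V}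

theorem b21 (s : Chain h u1 u2 u3 u4) : h.b u2 u1 = 1 := by rw [h.b_comm]; exact s.b12
theorem b32 (s : Chain h u1 u2 u3 u4) : h.b u3 u2 = 1 := by rw [h.b_comm]; exact s.b23
theorem b43 (s : Chain h u1 u2 u3 u4) : h.b u4 u3 = 1 := by rw [h.b_comm]; exact s.b34
theorem b31 (s : Chain h u1 u2 u3 u4) : h.b u3 u1 = 0 := by rw [h.b_comm]; exact s.b13
theorem b41 (s : Chain h u1 u2 u3 u4) : h.b u4 u1 = 0 := by rw [h.b_comm]; exact s.b14
theorem b42 (s : Chain h u1 u2 u3 u4) : h.b u4 u2 = 0 := by rw [h.b_comm]; exact s.b24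

/-- the Coxeter element -/
noncomputable def f (h : Large Q z) (u1 u2 u3 u4 x : h.V) : h.V :=
  tr h u1 (tr h u2 (tr h u3 (tr h u4 x)))

theorem add3 (h : Large Q z) (a b : h.V) : a + (a + b) = b := by
  rw [← add_assoc, h.add_self, zero_add]

theorem fu1 (s : Chain h u1 u2 u3 u4) : f h u1 u2 u3 u4 u1 = u2 := by
  simp only [f, tr, s.b41, s.b31, s.b21, s.b12, map_add, map_smul, h.b_self, zero_smul, one_smul,
    add_zero, zero_add]
  rw [add_comm u1 u2, add_assoc, h.add_self, add_zero]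

theorem fu2 (s : Chain h u1 u2 u3 u4) : f h u1 u2 u3 u4 u2 = u3 := by
  simp only [f, tr, s.b42, s.b32, s.b23, s.b13, s.b12, map_add, map_smul, h.b_self, zero_smul,
    one_smul, add_zero, zero_add, smul_zero, smul_eq_mul, mul_one]
  rw [add_comm (u2 + u3) u2, add3]
  rw [show (1 : ZMod 2) + 1 = 0 from rfl, zero_smul, add_zero]

theorem fu3 (s : Chain h u1 u2 u3 u4) : f h u1 u2 u3 u4 u3 = u4 := by
  simp only [f, tr, s.b43, s.b34, s.b23, s.b24, s.b13, s.b14, s.b12, map_add, map_smul, h.b_self,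
    zero_smul, one_smul, add_zero, zero_add, smul_zero, smul_eq_mul, mul_one]
  rw [show (1 : ZMod 2) + 1 = 0 from rfl, zero_smul, add_zero, add_comm (u3 + u4) u3, add3]
  rw [zero_smul, add_zero]

theorem fu4 (s : Chain h u1 u2 u3 u4) : f h u1 u2 u3 u4 u4 = u1 + u2 + u3 + u4 := by
  simp only [f, tr, s.b34, s.b23, s.b24, s.b13, s.b14, s.b12, map_add, map_smul, h.b_self,
    zero_smul, one_smul, add_zero, zero_add, smul_zero, smul_eq_mul, mul_one]
  abel

theorem fw (s : Chain h u1 u2 u3 u4) {w : h.V} (h1 : h.b u1 w = 0) (h2 : h.b u2 w = 0)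
    (h3 : h.b u3 w = 0) (h4 : h.b u4 w = 0) : f h u1 u2 u3 u4 w = w := by
  simp only [f, tr, h1, h2, h3, h4, zero_smul, add_zero]

/-- decomposition -/
theorem dec (s : Chain h u1 u2 u3 u4) (x : h.V) : ∃ w, (h.b u1 w = 0 ∧ h.b u2 w = 0 ∧
    h.b u3 w = 0 ∧ h.b u4 w = 0) ∧ ∃ a1 a2 a3 a4 : ZMod 2,
      x = w + (a1 • u1 + a2 • u2 + a3 • u3 + a4 • u4) := by
  set a1 := h.b u2 x + h.b u4 x with ha1
  set a2 := h.b u1 x with ha2
  set a3 := h.b u4 x with ha3
  set a4 := h.b u1 x + h.b u3 x with ha4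
  refine ⟨x + (a1 • u1 + a2 • u2 + a3 • u3 + a4 • u4), ⟨?_, ?_, ?_, ?_⟩, a1, a2, a3, a4, ?_⟩
  · simp only [map_add, map_smul, h.b_self, s.b12, s.b13, s.b14, smul_eq_mul, mul_zero, mul_one,
      add_zero, zero_add]
    rw [ha2]
    exact CharTwo.add_self_eq_zero _
  · simp only [map_add, map_smul, h.b_self, s.b21, s.b23, s.b24, smul_eq_mul, mul_zero, mul_one,
      add_zero, zero_add]
    rw [ha1, ha3]
    generalize h.b u2 x = p
    generalize h.b u4 x = q
    revert p q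
    decide
  · simp only [map_add, map_smul, h.b_self, s.b31, s.b32, s.b34, smul_eq_mul, mul_zero, mul_one,
      add_zero, zero_add]
    rw [ha2, ha4]
    generalize h.b u1 x = p
    generalize h.b u3 x = q
    revert p q
    decide
  · simp only [map_add, map_smul, h.b_self, s.b41, s.b42, s.b43, smul_eq_mul, mul_zero, mul_one,
      add_zero, zero_add]
    rw [ha3]
    exact CharTwo.add_self_eq_zero _
  · rw [add_assoc, h.add_self, add_zero]

/-- a bundled form of the coordinates -/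
noncomputable def vec (h : Large Q z) (u1 u2 u3 u4 : h.V) (a1 a2 a3 a4 : ZMod 2) : h.V :=
  a1 • u1 + a2 • u2 + a3 • u3 + a4 • u4

theorem b1 (s : Chain h u1 u2 u3 u4) (a1 a2 a3 a4 : ZMod 2) :
    h.b u1 (vec h u1 u2 u3 u4 a1 a2 a3 a4) = a2 := by
  simp only [vec, map_add, map_smul, h.b_self, s.b12, s.b13, s.b14, smul_eq_mul, mul_zero, mul_one,
      add_zero, zero_add]

theorem b2 (s : Chain h u1 u2 u3 u4) (a1 a2 a3 a4 : ZMod 2) :
    h.b u2 (vec h u1 u2 u3 u4 a1 a2 a3 a4) = a1 + a3 := by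
  simp only [vec, map_add, map_smul, h.b_self, s.b21, s.b23, s.b24, smul_eq_mul, mul_zero, mul_one,
      add_zero, zero_add]

theorem b3 (s : Chain h u1 u2 u3 u4) (a1 a2 a3 a4 : ZMod 2) :
    h.b u3 (vec h u1 u2 u3 u4 a1 a2 a3 a4) = a2 + a4 := by
  simp only [vec, map_add, map_smul, h.b_self, s.b31, s.b32, s.b34, smul_eq_mul, mul_zero, mul_one,
      add_zero, zero_add]

theorem b4 (s : Chain h u1 u2 u3 u4) (a1 a2 a3 a4 : ZMod 2) :
    h.b u4 (vec h u1 u2 u3 u4 a1 a2 a3 a4) = a3 := by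
  simp only [vec, map_add, map_smul, h.b_self, s.b41, s.b42, s.b43, smul_eq_mul, mul_zero, mul_one,
      add_zero, zero_add]

theorem q_smul (h : Large Q z) (a : ZMod 2) (x : h.V) : h.q (a • x) = a * h.q x := by
  rcases zmod2 a with rfl | rfl
  · rw [zero_smul, h.q_zero, zero_mul]
  · rw [one_smul, one_mul]

theorem q_vec (s : Chain h u1 u2 u3 u4) (a1 a2 a3 a4 : ZMod 2) :
    h.q (vec h u1 u2 u3 u4 a1 a2 a3 a4) = a1 + a2 + a3 + a4 + a1 * a2 + a2 * a3 + a3 * a4 := by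
  simp only [vec, h.q_add', q_smul, s.q1, s.q2, s.q3, s.q4, map_add, map_smul, LinearMap.add_apply,
    LinearMap.smul_apply, smul_eq_mul, s.b12, s.b13, s.b14, s.b23, s.b24, s.b34, mul_one, mul_zero,
    add_zero, zero_add]
  revert a1 a2 a3 a4
  decide

/-- the map with coordinates -/
theorem f_vec {c : h.V ≃ₗ[ZMod 2] h.V} (s : Chain h u1 u2 u3 u4)
    (hc : ∀ x, c x = f h u1 u2 u3 u4 x) (a1 a2 a3 a4 : ZMod 2) :
    c (vec h u1 u2 u3 u4 a1 a2 a3 a4) = vec h u1 u2 u3 u4 a4 (a1 + a4) (a2 + a4) (a3 + a4) := by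
  have e1 : c u1 = u2 := by rw [hc]; exact s.fu1
  have e2 : c u2 = u3 := by rw [hc]; exact s.fu2
  have e3 : c u3 = u4 := by rw [hc]; exact s.fu3
  have e4 : c u4 = u1 + u2 + u3 + u4 := by rw [hc]; exact s.fu4
  rw [vec, vec, map_add, map_add, map_add, map_smul, map_smul, map_smul, map_smul, e1, e2, e3, e4]
  simp only [smul_add, add_smul]
  abel

theorem c_perp {c : h.V ≃ₗ[ZMod 2] h.V} (s : Chain h u1 u2 u3 u4)
    (hc : ∀ x, c x = f h u1 u2 u3 u4 x) {w : h.V} (h1 : h.b u1 w = 0) (h2 : h.b u2 w = 0)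
    (h3 : h.b u3 w = 0) (h4 : h.b u4 w = 0) : c w = w := by
  rw [hc]; exact s.fw h1 h2 h3 h4

/-- the fixed vectors -/
theorem fix_iff {c : h.V ≃ₗ[ZMod 2] h.V} (s : Chain h u1 u2 u3 u4)
    (hc : ∀ x, c x = f h u1 u2 u3 u4 x) (x : h.V) :
    c x = x ↔ (h.b u1 x = 0 ∧ h.b u2 x = 0 ∧ h.b u3 x = 0 ∧ h.b u4 x = 0) := by
  constructor
  · intro e
    obtain ⟨w, ⟨h1, h2, h3, h4⟩, a1, a2, a3, a4, rfl⟩ := s.dec x
    change c (w + vec h u1 u2 u3 u4 a1 a2 a3 a4) = w + vec h u1 u2 u3 u4 a1 a2 a3 a4 at e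
    rw [map_add, s.c_perp hc h1 h2 h3 h4, s.f_vec hc] at e
    have e' := add_left_cancel e
    have i1 := congrArg (h.b u1) e'
    have i2 := congrArg (h.b u2) e'
    have i3 := congrArg (h.b u3) e'
    have i4 := congrArg (h.b u4) e'
    rw [s.b1, s.b1] at i1
    rw [s.b2, s.b2] at i2
    rw [s.b3, s.b3] at i3
    rw [s.b4, s.b4] at i4
    have key : ∀ a1 a2 a3 a4 : ZMod 2, a1 + a4 = a2 → a4 + (a2 + a4) = a1 + a3 →
        a1 + a4 + (a3 + a4) = a2 + a4 → a2 + a4 = a3 → a1 = 0 ∧ a2 = 0 ∧ a3 = 0 ∧ a4 = 0 := by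
      decide
    obtain ⟨rfl, rfl, rfl, rfl⟩ := key a1 a2 a3 a4 i1 i2 i3 i4
    simp only [zero_smul, add_zero]
    exact ⟨h1, h2, h3, h4⟩
  · rintro ⟨h1, h2, h3, h4⟩
    exact s.c_perp hc h1 h2 h3 h4

theorem vec_one (h : Large Q z) (u1 u2 u3 u4 : h.V) : vec h u1 u2 u3 u4 1 0 0 0 = u1 := by
  simp only [vec, one_smul, zero_smul, add_zero]

theorem pow_five {c : h.V ≃ₗ[ZMod 2] h.V} (s : Chain h u1 u2 u3 u4)
    (hc : ∀ x, c x = f h u1 u2 u3 u4 x) : c ^ 5 = 1 := by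
  ext x
  obtain ⟨w, ⟨h1, h2, h3, h4⟩, a1, a2, a3, a4, rfl⟩ := s.dec x
  change (c ^ 5) (w + vec h u1 u2 u3 u4 a1 a2 a3 a4) = w + vec h u1 u2 u3 u4 a1 a2 a3 a4
  have e : ∀ y, (c ^ 5) y = c (c (c (c (c y)))) := fun y => rfl
  have hw := s.c_perp hc h1 h2 h3 h4
  rw [map_add, e, e, hw, hw, hw, hw, hw, s.f_vec hc, s.f_vec hc, s.f_vec hc, s.f_vec hc, s.f_vec hc]
  have key : ∀ a1 a2 a3 a4 : ZMod 2,
      (a1 + a4 + (a2 + a4 + (a3 + a4)) + (a4 + (a3 + a4)) = a1 + a4 + (a2 + a4 + (a3 + a4)) + (a4 + (a3 + a4))) := by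
    intros; rfl
  congr 1
  congr 1 <;> · revert a1 a2 a3 a4; decide

/-- the isometries that commute with `c` and are trivial on the perpendicular space -/
theorem eq_pow [Finite G] {c : h.V ≃ₗ[ZMod 2] h.V} (s : Chain h u1 u2 u3 u4)
    (hc : ∀ x, c x = f h u1 u2 u3 u4 x) {g : h.V ≃ₗ[ZMod 2] h.V}
    (hq : ∀ x, h.q (g x) = h.q x) (hg : ∀ x, g (c x) = c (g x))
    (hw : ∀ w, h.b u1 w = 0 → h.b u2 w = 0 → h.b u3 w = 0 → h.b u4 w = 0 → g w = w) :
    ∃ i : ℕ, g = c ^ i := by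
  have hb : ∀ x y, h.b (g x) (g y) = h.b x y := fun x y => KillSiegel.isom_b h hq x y
  have e1 : c u1 = u2 := by rw [hc]; exact s.fu1
  have e2 : c u2 = u3 := by rw [hc]; exact s.fu2
  have e3 : c u3 = u4 := by rw [hc]; exact s.fu3
  -- it suffices that `g u1 = c ^ i u1`
  have key : ∀ i : ℕ, g u1 = (c ^ i) u1 → g = c ^ i := by
    intro i hi
    have hcomm : ∀ x, (c ^ i) (c x) = c ((c ^ i) x) := by
      intro x
      show (c ^ i * c) x = (c * c ^ i) x
      rw [← pow_succ, ← pow_succ']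
    have i2 : g u2 = (c ^ i) u2 := by rw [← e1, hg, hi, hcomm]
    have i3 : g u3 = (c ^ i) u3 := by rw [← e2, hg, i2, hcomm]
    have i4 : g u4 = (c ^ i) u4 := by rw [← e3, hg, i3, hcomm]
    have hwi : ∀ (i : ℕ) (w : h.V), c w = w → (c ^ i) w = w := by
      intro i w hcw
      induction i with
      | zero => rfl
      | succ n ih =>
        rw [pow_succ]
        show (c ^ n) (c w) = w
        rw [hcw, ih]
    ext x
    obtain ⟨w, ⟨h1, h2, h3, h4⟩, a1, a2, a3, a4, rfl⟩ := s.dec x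
    simp only [map_add, map_smul, hi, i2, i3, i4, hw w h1 h2 h3 h4,
      hwi i w (s.c_perp hc h1 h2 h3 h4)]
  -- `g u1` lies in the span
  obtain ⟨w, ⟨h1, h2, h3, h4⟩, a1, a2, a3, a4, he⟩ := s.dec (g u1)
  change g u1 = w + vec h u1 u2 u3 u4 a1 a2 a3 a4 at he
  have hw0 : w = 0 := by
    apply h.b_nondeg
    intro x
    obtain ⟨w', ⟨h1', h2', h3', h4'⟩, c1, c2, c3, c4, rfl⟩ := s.dec x
    have f1 : h.b w u1 = 0 := by rw [h.b_comm]; exact h1
    have f2 : h.b w u2 = 0 := by rw [h.b_comm]; exact h2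
    have f3 : h.b w u3 = 0 := by rw [h.b_comm]; exact h3
    have f4 : h.b w u4 = 0 := by rw [h.b_comm]; exact h4
    have f5 : h.b (g u1) w' = 0 := by
      have := hb u1 w'
      rw [hw w' h1' h2' h3' h4', h1'] at this
      exact this
    have f6 : h.b (vec h u1 u2 u3 u4 a1 a2 a3 a4) w' = 0 := by
      simp only [vec, map_add, map_smul, LinearMap.add_apply, LinearMap.smul_apply, h1', h2', h3',
        h4', smul_zero, add_zero]
    have f7 : h.b w w' = 0 := by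
      rw [he, map_add, LinearMap.add_apply, f6, add_zero] at f5
      exact f5
    simp only [map_add, map_smul, f1, f2, f3, f4, f7, smul_zero, add_zero]
  rw [hw0, zero_add] at he
  have k1 : h.q (vec h u1 u2 u3 u4 a1 a2 a3 a4) = 1 := by rw [← he, hq, s.q1]
  have k2 : h.b (vec h u1 u2 u3 u4 a1 a2 a3 a4) (c (vec h u1 u2 u3 u4 a1 a2 a3 a4)) = 1 := by
    rw [← he, ← hg, hb, e1, s.b12]
  rw [s.q_vec] at k1
  rw [s.f_vec hc] at k2
  have k3 : h.b (vec h u1 u2 u3 u4 a1 a2 a3 a4)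
      (vec h u1 u2 u3 u4 a4 (a1 + a4) (a2 + a4) (a3 + a4)) =
      a1 * (a1 + a4) + a2 * (a4 + (a2 + a4)) + a3 * (a1 + a4 + (a3 + a4)) + a4 * (a2 + a4) := by
    conv_lhs =>
      enter [1, 2]
      rw [vec]
    rw [map_add, map_add, map_add, map_smul, map_smul, map_smul, map_smul]
    simp only [LinearMap.add_apply, LinearMap.smul_apply, smul_eq_mul]
    rw [s.b1, s.b2, s.b3, s.b4]
  rw [k3] at k2
  have key2 : ∀ a1 a2 a3 a4 : ZMod 2,
      a1 + a2 + a3 + a4 + a1 * a2 + a2 * a3 + a3 * a4 = 1 →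
      a1 * (a1 + a4) + a2 * (a4 + (a2 + a4)) + a3 * (a1 + a4 + (a3 + a4)) + a4 * (a2 + a4) = 1 →
      (a1 = 1 ∧ a2 = 0 ∧ a3 = 0 ∧ a4 = 0) ∨ (a1 = 0 ∧ a2 = 1 ∧ a3 = 0 ∧ a4 = 0) ∨
      (a1 = 0 ∧ a2 = 0 ∧ a3 = 1 ∧ a4 = 0) ∨ (a1 = 0 ∧ a2 = 0 ∧ a3 = 0 ∧ a4 = 1) ∨
      (a1 = 1 ∧ a2 = 1 ∧ a3 = 1 ∧ a4 = 1) := by decide
  have hu2 : (c ^ 1) u1 = u2 := by rw [pow_one]; exact e1
  have hu3 : (c ^ 2) u1 = u3 := by
    show c (c u1) = u3
    rw [e1, e2]
  have hu4 : (c ^ 3) u1 = u4 := by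
    show c (c (c u1)) = u4
    rw [e1, e2, e3]
  have e4 : c u4 = u1 + u2 + u3 + u4 := by rw [hc]; exact s.fu4
  have hu5 : (c ^ 4) u1 = u1 + u2 + u3 + u4 := by
    show c (c (c (c u1))) = u1 + u2 + u3 + u4
    rw [e1, e2, e3, e4]
  rcases key2 a1 a2 a3 a4 k1 k2 with h0 | h0 | h0 | h0 | h0 <;>
    obtain ⟨rfl, rfl, rfl, rfl⟩ := h0 <;>
    simp only [vec, one_smul, zero_smul, add_zero, zero_add] at he
  · exact ⟨0, key 0 (by rw [pow_zero]; exact he)⟩
  · exact ⟨1, key 1 (by rw [hu2]; exact he)⟩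
  · exact ⟨2, key 2 (by rw [hu3]; exact he)⟩
  · exact ⟨3, key 3 (by rw [hu4]; exact he)⟩
  · exact ⟨4, key 4 (by rw [hu5]; exact he)⟩

end Chain

/-- step with an element of order 5 -/
theorem red_four {G : Type u} [Group G] [Finite G] {Q : Subgroup G} {z : G} (h : Large Q z)
    (hF : Fus Q z) (hR : RR h) {u1 u2 u3 u4 : h.V} (s : Chain h u1 u2 u3 u4) :
    Red h (fun y => h.b u1 y = 0 ∧ h.b u2 y = 0 ∧ h.b u3 y = 0 ∧ h.b u4 y = 0) := by
  obtain ⟨c1, hc1⟩ := hR u1 u2 s.q1 s.q2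
  obtain ⟨c2, hc2⟩ := hR u3 u4 s.q3 s.q4
  have hc : ∀ x, h.act (c1 * c2) x = Chain.f h u1 u2 u3 u4 x := by
    intro x
    rw [map_mul]
    show h.act c1 (h.act c2 x) = _
    rw [hc1, hc2]
    rfl
  obtain ⟨G', i1, i2, Q', z', h', j, h1, h2, h3, h4, h5, h6⟩ :=
    exists_quot h hF hR (c1 * c2) (Or.inr rfl) (s.pow_five hc) (by
      intro g hq hg hw
      exact s.eq_pow hc hq hg (fun w h1 h2 h3 h4 => hw w ((s.fix_iff hc w).2 ⟨h1, h2, h3, h4⟩)))
  exact ⟨G', i1, i2, Q', z', h', j, h1, h2, h3, h4, h5, fun y => by rw [← h6, s.fix_iff hc]⟩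

/-! ### cardinalities -/

/-- a dual system -/
theorem card_of_dual {G : Type*} [Group G] [Finite G] {Q : Subgroup G} {z : G} {h : Large Q z}
    {G' : Type*} [Group G'] [Finite G'] {Q' : Subgroup G'} {z' : G'} {h' : Large Q' z'}
    (j : h'.V →ₗ[ZMod 2] h.V) (hj : Function.Injective j) {k : ℕ} (u w : Fin k → h.V)
    (hd : ∀ i l, h.b (u i) (w l) = if i = l then 1 else 0)
    (hP : ∀ y, (∀ i, h.b (u i) y = 0) ↔ ∃ x, j x = y) :
    Nat.card h.V = Nat.card h'.V * 2 ^ k := by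
  have e : Nat.card (h'.V × (Fin k → ZMod 2)) = Nat.card h'.V * 2 ^ k := by
    rw [Nat.card_prod, Nat.card_fun, Nat.card_zmod, Nat.card_eq_fintype_card (α := Fin k),
      Fintype.card_fin]
  rw [← e]
  symm
  have hbs : ∀ (a : Fin k → ZMod 2) (i : Fin k), h.b (u i) (∑ l, a l • w l) = a i := by
    intro a i
    rw [map_sum]
    simp only [map_smul, hd, smul_eq_mul, mul_ite, mul_one, mul_zero]
    rw [Finset.sum_ite_eq Finset.univ i]
    simp
  refine Nat.card_eq_of_bijective (fun c : h'.V × (Fin k → ZMod 2) => j c.1 + ∑ l, c.2 l • w l)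
    ⟨?_, ?_⟩
  · rintro ⟨x, a⟩ ⟨x', a'⟩ hxx
    have hxx' : j x + ∑ l, a l • w l = j x' + ∑ l, a' l • w l := hxx
    have ha : a = a' := by
      funext i
      have h1 := congrArg (h.b (u i)) hxx'
      rw [map_add, map_add, hbs, hbs, (hP (j x)).2 ⟨x, rfl⟩ i, (hP (j x')).2 ⟨x', rfl⟩ i, zero_add,
        zero_add] at h1
      exact h1
    subst ha
    rw [hj (add_right_cancel hxx')]
  · intro y
    obtain ⟨x, hx⟩ := (hP (y + ∑ l, h.b (u l) y • w l)).1 (by
      intro i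
      rw [map_add, hbs]
      exact CharTwo.add_self_eq_zero _)
    refine ⟨(x, fun l => h.b (u l) y), ?_⟩
    show j x + ∑ l, h.b (u l) y • w l = y
    rw [hx, add_assoc, h.add_self, add_zero]

theorem card_two {G : Type*} [Group G] [Finite G] {Q : Subgroup G} {z : G} {h : Large Q z}
    {G' : Type*} [Group G'] [Finite G'] {Q' : Subgroup G'} {z' : G'} {h' : Large Q' z'}
    (j : h'.V →ₗ[ZMod 2] h.V) (hj : Function.Injective j) {u v : h.V} (buv : h.b u v = 1)
    (hP : ∀ y, (h.b u y = 0 ∧ h.b v y = 0) ↔ ∃ x, j x = y) :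
    Nat.card h.V = Nat.card h'.V * 4 := by
  have hvu : h.b v u = 1 := by rw [h.b_comm]; exact buv
  apply card_of_dual j hj (k := 2) ![u, v] ![v, u]
  · intro i l
    fin_cases i <;> fin_cases l <;> simp [buv, hvu, h.b_self]
  · intro y
    rw [← hP, Fin.forall_fin_two]
    rfl

theorem card_four {G : Type*} [Group G] [Finite G] {Q : Subgroup G} {z : G} {h : Large Q z}
    {G' : Type*} [Group G'] [Finite G'] {Q' : Subgroup G'} {z' : G'} {h' : Large Q' z'}
    (j : h'.V →ₗ[ZMod 2] h.V) (hj : Function.Injective j) {u1 u2 u3 u4 : h.V}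
    (s : Chain h u1 u2 u3 u4)
    (hP : ∀ y, (h.b u1 y = 0 ∧ h.b u2 y = 0 ∧ h.b u3 y = 0 ∧ h.b u4 y = 0) ↔ ∃ x, j x = y) :
    Nat.card h.V = Nat.card h'.V * 16 := by
  have := card_of_dual j hj (k := 4) ![u1, u2, u3, u4] ![u2 + u4, u1, u4, u1 + u3] (by
    intro i l
    fin_cases i <;> fin_cases l <;> simp [h.b_self, s.b12, s.b13, s.b14, s.b21, s.b23, s.b24,
      s.b31, s.b32, s.b34, s.b41, s.b42, s.b43] <;> decide) (by
    intro y
    rw [← hP]
    constructor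
    · intro hy
      exact ⟨hy 0, hy 1, hy 2, hy 3⟩
    · rintro ⟨h1, h2, h3, h4⟩ i
      fin_cases i
      · exact h1
      · exact h2
      · exact h3
      · exact h4)
  rw [this]
  norm_num

end Cfsg.Agent.LargeExtra.TwoAChain

end

section


/-!
# `|D̃| = 2` is impossible in width at least 5 (helper71)

`TwoA.false_of_pair`: `Q` large extraspecial of order at least `2^11`, `a ∈ Q ∖ ⟨z⟩` conjugate to `z`,
`Q ∩ Q_a = ⟨z, a⟩`, `O_2(C(z)) = Q`: impossible.  (Induction by `C_G(ρ) / ⟨ρ⟩`, `ρ` of order 3 or 5, down to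
`|Q| = 2^7` of plus type.)
-/

set_option autoImplicit false

namespace Cfsg.Agent.LargeExtra.TwoA

open Cfsg.Agent.Co2Type.Quad Cfsg.Agent.LargeExtra.Base Cfsg.Agent.LargeExtra.Local
open Cfsg.Agent.LargeExtra.Siegel Cfsg.Agent.LargeExtra.SiegelOrbit
open Cfsg.Agent.LargeExtra.KillSiegel Cfsg.Agent.LargeExtra.TwoAQuot Cfsg.Agent.LargeExtra.TwoAEmb
open Cfsg.Agent.LargeExtra.TwoAChain Cfsg.Agent.LieClassical.OrthCore
open Cfsg.Agent.LieClassical.OrthTrans

section lin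

variable {G : Type*} [Group G] [Finite G] {Q : Subgroup G} {z : G}

/-- an anisotropic plane -/
theorem exists_aniso (h : Large Q z) (hV : 4 < Nat.card h.V) :
    ∃ u v : h.V, h.q u = 1 ∧ h.q v = 1 ∧ h.b u v = 1 := by
  have hsame : ∀ c : ZMod 2, c ≠ 1 → c = 0 := by decide
  -- a nonsingular vector
  obtain ⟨u, hu⟩ : ∃ u, h.q u = 1 := by
    by_contra hcon
    push Not at hcon
    have h0 : ∀ v, h.q v = 0 := fun v => hsame _ (hcon v)
    have h1 : ∀ v : h.V, v = 0 := by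
      intro v
      apply h.b_nondeg
      intro w
      have := h.q_add' v w
      rw [h0, h0, h0, zero_add, zero_add] at this
      exact this.symm
    have h2 : Nat.card h.V ≤ 1 := by
      have : Subsingleton h.V := ⟨fun a b => by rw [h1 a, h1 b]⟩
      exact Finite.card_le_one_iff_subsingleton.2 this
    omega
  by_contra hcon
  push Not at hcon
  have hcon' : ∀ v, h.b u v = 1 → h.q v = 0 := fun v hv => hsame _ (fun hq => hcon u v hu hq hv)
  have hu0 : u ≠ 0 := by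
    rintro rfl
    rw [h.q_zero] at hu
    exact absurd hu (by decide)
  obtain ⟨v, hv⟩ : ∃ v, h.b u v = 1 := by
    by_contra hc
    push Not at hc
    exact hu0 (h.b_nondeg fun w => hsame _ (hc w))
  have hqw : ∀ w, h.b u w = 0 → h.q w = h.b v w := by
    intro w hw
    have h1 := hcon' (v + w) (by rw [map_add, hv, hw, add_zero])
    rw [h.q_add', hcon' v hv, zero_add] at h1
    exact CharTwo.add_eq_zero.1 h1
  set S := h.b.orthogonal (Submodule.span (ZMod 2) ({u} : Set h.V)) with hS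
  have hSu : ∀ w, w ∈ S → h.b u w = 0 := by
    intro w hw
    exact (Perp.mem_perp h _).1 hw u (Submodule.mem_span_singleton_self u)
  have h1 : Nat.card S * Nat.card S ≤ Nat.card h.V := by
    apply Perp.card_sq_le h
    intro w hw w' hw'
    have e1 := hqw w (hSu w hw)
    have e2 := hqw w' (hSu w' hw')
    have e3 := hqw (w + w') (by rw [map_add, hSu w hw, hSu w' hw', add_zero])
    rw [h.q_add', e1, e2, map_add] at e3
    exact left_eq_add.1 e3.symm
  have h2 := Perp.card_perp h (Submodule.span (ZMod 2) ({u} : Set h.V))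
  have h3 : Nat.card (Submodule.span (ZMod 2) ({u} : Set h.V)) ≤ 2 := by
    have : Function.Surjective (fun c : ZMod 2 =>
        (⟨c • u, Submodule.mem_span_singleton.2 ⟨c, rfl⟩⟩ :
          Submodule.span (ZMod 2) ({u} : Set h.V))) := by
      rintro ⟨y, hy⟩
      obtain ⟨c, rfl⟩ := Submodule.mem_span_singleton.1 hy
      exact ⟨c, rfl⟩
    have := Nat.card_le_card_of_surjective _ this
    rwa [Nat.card_zmod] at this
  have h4 : Nat.card h.V ≤ 2 * Nat.card S := by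
    rw [← h2]
    exact Nat.mul_le_mul_right _ h3
  have h5 : Nat.card h.V * Nat.card h.V ≤ 4 * Nat.card h.V := by
    calc Nat.card h.V * Nat.card h.V ≤ (2 * Nat.card S) * (2 * Nat.card S) := Nat.mul_le_mul h4 h4
      _ = 4 * (Nat.card S * Nat.card S) := by ring
      _ ≤ _ := Nat.mul_le_mul_left _ h1
  have h6 : Nat.card h.V ≤ 4 := Nat.le_of_mul_le_mul_right h5 (by omega)
  omega

/-- a vector outside the radical of `S^⊥` -/
theorem exists_mate (h : Large Q z) {S : Submodule (ZMod 2) h.V} {x : h.V} (hx : x ∉ S) :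
    ∃ y, (∀ s ∈ S, h.b s y = 0) ∧ h.b x y = 1 := by
  by_contra hcon
  push Not at hcon
  apply hx
  apply Perp.mem_of_perp h
  intro w hw
  rw [h.b_comm]
  rcases zmod2 (h.b x w) with h1 | h1
  · exact h1
  · exact absurd h1 (hcon w hw)

omit [Finite G] in
/-- a normalised basis of a nondegenerate plane -/
theorem exists_norm (h : Large Q z) {L : Submodule (ZMod 2) h.V} {e f : h.V} (he : e ∈ L)
    (hf : f ∈ L) (bef : h.b e f = 1) :
    ∃ e' ∈ L, ∃ f' ∈ L, h.b e' f' = 1 ∧ ((h.q e' = 0 ∧ h.q f' = 0) ∨ (h.q e' = 1 ∧ h.q f' = 1)) ∧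
      ∀ y, h.b e y = 0 → h.b f y = 0 → h.b e' y = 0 ∧ h.b f' y = 0 := by
  have bfe : h.b f e = 1 := by rw [h.b_comm]; exact bef
  rcases zmod2 (h.q e) with h1 | h1 <;> rcases zmod2 (h.q f) with h2 | h2
  · exact ⟨e, he, f, hf, bef, Or.inl ⟨h1, h2⟩, fun y hy1 hy2 => ⟨hy1, hy2⟩⟩
  · refine ⟨e, he, e + f, L.add_mem he hf, by rw [map_add, h.b_self, bef, zero_add],
      Or.inl ⟨h1, by rw [h.q_add', h1, h2, bef]; decide⟩, fun y hy1 hy2 => ⟨hy1, by
        rw [map_add, LinearMap.add_apply, hy1, hy2, add_zero]⟩⟩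
  · refine ⟨f, hf, e + f, L.add_mem he hf, by rw [map_add, h.b_self, bfe, add_zero],
      Or.inl ⟨h2, by rw [h.q_add', h1, h2, bef]; decide⟩, fun y hy1 hy2 => ⟨hy2, by
        rw [map_add, LinearMap.add_apply, hy1, hy2, add_zero]⟩⟩
  · exact ⟨e, he, f, hf, bef, Or.inr ⟨h1, h2⟩, fun y hy1 hy2 => ⟨hy1, hy2⟩⟩

/-- width 5: a totally singular 3-space `T` and two orthogonal planes perpendicular to it -/
theorem exists_planes (h : Large Q z) (hV : Nat.card h.V = 1024) :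
    ∃ (T : Submodule (ZMod 2) h.V) (e f x y : h.V), (∀ t ∈ T, h.q t = 0) ∧ Nat.card T = 8 ∧
      (∀ t ∈ T, h.b t e = 0 ∧ h.b t f = 0 ∧ h.b t x = 0 ∧ h.b t y = 0) ∧
      h.b e f = 1 ∧ h.b x y = 1 ∧ h.b e x = 0 ∧ h.b e y = 0 ∧ h.b f x = 0 ∧ h.b f y = 0 := by
  obtain ⟨T, hT, hc⟩ := KOneLin.exists_ts h (by omega)
  have hp := Perp.card_perp h T
  rw [hc, hV] at hp
  obtain ⟨e, he, heT⟩ : ∃ u, (∀ t ∈ T, h.b t u = 0) ∧ u ∉ T := by
    by_contra hcon
    push Not at hcon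
    have hle : h.b.orthogonal T ≤ T := fun w hw => hcon w ((Perp.mem_perp h T).1 hw)
    have h2 : Nat.card (h.b.orthogonal T) ≤ Nat.card T :=
      Nat.card_le_card_of_injective _ (Submodule.inclusion_injective hle)
    omega
  obtain ⟨f, hf, bef⟩ := exists_mate h heT
  have bfe : h.b f e = 1 := by rw [h.b_comm]; exact bef
  have c1 := KOneLin.card_sup h heT
  set S1 := T ⊔ Submodule.span (ZMod 2) {e} with hS1
  have hfS : f ∉ S1 := by
    intro h1
    have h2 : h.b e f = 0 := by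
      rcases KOneLin.mem_sup_iff h h1 with h3 | ⟨t, ht, rfl⟩
      · rw [h.b_comm]; exact he f h3
      · rw [map_add, h.b_self, add_zero, h.b_comm]; exact he t ht
    rw [bef] at h2
    exact absurd h2 (by decide)
  have c2 := KOneLin.card_sup h hfS
  set S := S1 ⊔ Submodule.span (ZMod 2) {f} with hS
  have hTS : T ≤ S := le_sup_left.trans le_sup_left
  have heS : e ∈ S := (le_sup_left : S1 ≤ S)
    ((le_sup_right : _ ≤ S1) (Submodule.mem_span_singleton_self e))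
  have hfS' : f ∈ S := (le_sup_right : _ ≤ S) (Submodule.mem_span_singleton_self f)
  obtain ⟨x, hx, hxS⟩ : ∃ x, (∀ s ∈ S, h.b s x = 0) ∧ x ∉ S := by
    by_contra hcon
    push Not at hcon
    have h1 := Perp.card_perp h S
    have hle : h.b.orthogonal S ≤ S := fun w hw => hcon w ((Perp.mem_perp h S).1 hw)
    have hlt : h.b.orthogonal S ≠ S := by
      intro he'
      have : e ∈ h.b.orthogonal S := by rw [he']; exact heS
      have := (Perp.mem_perp h S).1 this f hfS'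
      rw [bfe] at this
      exact absurd this (by decide)
    have hcS : Nat.card S = 32 := by rw [c2, c1, hc]
    rw [hcS, hV] at h1
    apply hlt
    apply SetLike.coe_injective
    apply Set.eq_of_subset_of_ncard_le hle _ (Set.toFinite _)
    show Nat.card S ≤ Nat.card (h.b.orthogonal S)
    omega
  obtain ⟨y, hy, bxy⟩ := exists_mate h hxS
  exact ⟨T, e, f, x, y, hT, hc, fun t ht => ⟨he t ht, hf t ht, hx t (hTS ht), hy t (hTS ht)⟩, bef, bxy,
    hx e heS, hy e heS, hx f hfS', hy f hfS'⟩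

end lin

section kill

/-- width 3, plus type -/
theorem false_six {G : Type*} [Group G] [Finite G] {Q : Subgroup G} {z : G} (h : Large Q z)
    (hF : Fus Q z) (hV : Nat.card h.V = 64) {T : Submodule (ZMod 2) h.V} (hT : ∀ t ∈ T, h.q t = 0)
    (hc : Nat.card T = 8) : False := by
  apply KillPlus.false_of_plus (B := KOne.pre h T) h (by rw [h.card_eq, hV]; norm_num) hF
  · exact fun x hx => hx.1
  · exact ⟨h.z_mem, by
      rw [show h.pr ⟨z, h.z_mem⟩ = 0 from h.pr_eq_zero.2 (Or.inr rfl)]; exact T.zero_mem⟩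
  · rintro x ⟨hx, hxT⟩
    exact h.q_eq_zero.1 (hT _ hxT)
  · rw [KOne.card_pre, hc]

/-- the preimage of a subspace -/
theorem card_comap {V V' : Type*} [AddCommGroup V] [Module (ZMod 2) V] [AddCommGroup V']
    [Module (ZMod 2) V'] (j : V' →ₗ[ZMod 2] V) (hj : Function.Injective j)
    {T : Submodule (ZMod 2) V} (hT : ∀ t ∈ T, ∃ x, j x = t) :
    Nat.card (T.comap j) = Nat.card T := by
  refine Nat.card_eq_of_bijective (fun x : T.comap j => (⟨j x, x.2⟩ : T)) ⟨?_, ?_⟩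
  · intro x y hxy
    exact Subtype.ext (hj (congrArg Subtype.val hxy))
  · rintro ⟨t, ht⟩
    obtain ⟨x, rfl⟩ := hT t ht
    exact ⟨⟨x, ht⟩, rfl⟩

universe u

/-- width 5, two anisotropic planes -/
theorem false_planes {G : Type u} [Group G] [Finite G] {Q : Subgroup G} {z : G} (h : Large Q z)
    (hF : Fus Q z) (hR : RR h) (hV : Nat.card h.V = 1024) {T : Submodule (ZMod 2) h.V}
    (hT : ∀ t ∈ T, h.q t = 0) (hc : Nat.card T = 8) {u v u' v' : h.V}
    (hTT : ∀ t ∈ T, h.b t u = 0 ∧ h.b t v = 0 ∧ h.b t u' = 0 ∧ h.b t v' = 0)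
    (qu : h.q u = 1) (qv : h.q v = 1) (buv : h.b u v = 1)
    (qu' : h.q u' = 1) (qv' : h.q v' = 1) (buv' : h.b u' v' = 1)
    (b1 : h.b u u' = 0) (b2 : h.b u v' = 0) (b3 : h.b v u' = 0) (b4 : h.b v v' = 0) : False := by
  obtain ⟨G1, i1, i2, Q1, z1, h1, j1, hF1, hR1, hj1, q1, bb1, hP1⟩ := red_two h hF hR qu qv buv
  have c1 := card_two j1 hj1 buv hP1
  obtain ⟨u1, rfl⟩ := (hP1 u').1 ⟨b1, b3⟩
  obtain ⟨v1, rfl⟩ := (hP1 v').1 ⟨b2, b4⟩
  rw [q1] at qu' qv'
  rw [bb1] at buv'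
  have hT1 : ∀ t ∈ T, ∃ x, j1 x = t := fun t ht => (hP1 t).1
    ⟨by rw [h.b_comm]; exact (hTT t ht).1, by rw [h.b_comm]; exact (hTT t ht).2.1⟩
  have cT1 := card_comap j1 hj1 hT1
  obtain ⟨G2, i3, i4, Q2, z2, h2, j2, hF2, hR2, hj2, q2, bb2, hP2⟩ :=
    red_two h1 hF1 hR1 qu' qv' buv'
  have c2 := card_two j2 hj2 buv' hP2
  have hT2 : ∀ t ∈ T.comap j1, ∃ x, j2 x = t := by
    intro t ht
    apply (hP2 t).1
    rw [← bb1, ← bb1]
    exact ⟨by rw [h.b_comm]; exact (hTT _ ht).2.2.1, by rw [h.b_comm]; exact (hTT _ ht).2.2.2⟩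
  have cT2 := card_comap j2 hj2 hT2
  apply false_six h2 hF2 (by omega) (T := (T.comap j1).comap j2) _ (by rw [cT2, cT1, hc])
  intro t ht
  rw [← q2, ← q1]
  exact hT _ ht

/-- width 5, a four-space of minus type -/
theorem false_chain {G : Type u} [Group G] [Finite G] {Q : Subgroup G} {z : G} (h : Large Q z)
    (hF : Fus Q z) (hR : RR h) (hV : Nat.card h.V = 1024) {T : Submodule (ZMod 2) h.V}
    (hT : ∀ t ∈ T, h.q t = 0) (hc : Nat.card T = 8) {u1 u2 u3 u4 : h.V} (s : Chain h u1 u2 u3 u4)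
    (hTT : ∀ t ∈ T, h.b u1 t = 0 ∧ h.b u2 t = 0 ∧ h.b u3 t = 0 ∧ h.b u4 t = 0) : False := by
  obtain ⟨G1, i1, i2, Q1, z1, h1, j1, hF1, hR1, hj1, q1, bb1, hP1⟩ := red_four h hF hR s
  have c1 := card_four j1 hj1 s hP1
  have cT1 := card_comap j1 hj1 (T := T) (fun t ht => (hP1 t).1 (hTT t ht))
  apply false_six h1 hF1 (by omega) (T := T.comap j1) _ (by rw [cT1, hc])
  intro t ht
  rw [← q1]
  exact hT _ ht

/-- a hyperbolic plane and an anisotropic plane contain an `A_4`-chain -/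
theorem chain_of {G : Type*} [Group G] {Q : Subgroup G} {z : G} {h : Large Q z} {e f x y : h.V}
    (qe : h.q e = 0) (qf : h.q f = 0) (qx : h.q x = 1) (qy : h.q y = 1) (bef : h.b e f = 1)
    (bxy : h.b x y = 1) (bex : h.b e x = 0) (bey : h.b e y = 0) (bfx : h.b f x = 0)
    (bfy : h.b f y = 0) : Chain h (e + f) (e + x) y x := by
  have bfe : h.b f e = 1 := by rw [h.b_comm]; exact bef
  have byx : h.b y x = 1 := by rw [h.b_comm]; exact bxy
  refine ⟨?_, ?_, qy, qx, ?_, ?_, byx, ?_, ?_, ?_⟩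
  · rw [h.q_add', qe, qf, bef]; decide
  · rw [h.q_add', qe, qx, bex]; decide
  · simp only [map_add, LinearMap.add_apply, h.b_self, bfe, bex, bfx]; decide
  · simp only [map_add, LinearMap.add_apply, bey, bxy]; decide
  · simp only [map_add, LinearMap.add_apply, bey, bfy]; decide
  · simp only [map_add, LinearMap.add_apply, bex, bfx]; decide
  · simp only [map_add, LinearMap.add_apply, bex, h.b_self]; decide

/-- width 5 -/
theorem false_ten {G : Type u} [Group G] [Finite G] {Q : Subgroup G} {z : G} (h : Large Q z)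
    (hF : Fus Q z) (hR : RR h) (hV : Nat.card h.V = 1024) : False := by
  obtain ⟨T, e, f, x, y, hT, hc, hTT, bef, bxy, bex, bey, bfx, bfy⟩ := exists_planes h hV
  set L := h.b.orthogonal T with hL
  have hmL : ∀ v, (∀ t ∈ T, h.b t v = 0) → v ∈ L := fun v hv => (Perp.mem_perp h T).2 hv
  obtain ⟨e', he', f', hf', bef', hq1, hy1⟩ := exists_norm h (L := L) (hmL e fun t ht => (hTT t ht).1)
    (hmL f fun t ht => (hTT t ht).2.1) bef
  obtain ⟨x', hx', y', hy', bxy', hq2, hy2⟩ := exists_norm h (L := L)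
    (hmL x fun t ht => (hTT t ht).2.2.1) (hmL y fun t ht => (hTT t ht).2.2.2) bxy
  obtain ⟨g1, g2⟩ := hy1 x bex bfx
  obtain ⟨g3, g4⟩ := hy1 y bey bfy
  obtain ⟨g5, g6⟩ := hy2 e' (by rw [h.b_comm]; exact g1) (by rw [h.b_comm]; exact g3)
  obtain ⟨g7, g8⟩ := hy2 f' (by rw [h.b_comm]; exact g2) (by rw [h.b_comm]; exact g4)
  have k1 : h.b e' x' = 0 := by rw [h.b_comm]; exact g5
  have k2 : h.b e' y' = 0 := by rw [h.b_comm]; exact g6
  have k3 : h.b f' x' = 0 := by rw [h.b_comm]; exact g7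
  have k4 : h.b f' y' = 0 := by rw [h.b_comm]; exact g8
  have bfe' : h.b f' e' = 1 := by rw [h.b_comm]; exact bef'
  have byx' : h.b y' x' = 1 := by rw [h.b_comm]; exact bxy'
  have m1 : ∀ t ∈ T, h.b t e' = 0 := (Perp.mem_perp h T).1 he'
  have m2 : ∀ t ∈ T, h.b t f' = 0 := (Perp.mem_perp h T).1 hf'
  have m3 : ∀ t ∈ T, h.b t x' = 0 := (Perp.mem_perp h T).1 hx'
  have m4 : ∀ t ∈ T, h.b t y' = 0 := (Perp.mem_perp h T).1 hy'
  have m5 : ∀ t ∈ T, h.b e' t = 0 := fun t ht => by rw [h.b_comm]; exact m1 t ht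
  have m6 : ∀ t ∈ T, h.b f' t = 0 := fun t ht => by rw [h.b_comm]; exact m2 t ht
  have m7 : ∀ t ∈ T, h.b x' t = 0 := fun t ht => by rw [h.b_comm]; exact m3 t ht
  have m8 : ∀ t ∈ T, h.b y' t = 0 := fun t ht => by rw [h.b_comm]; exact m4 t ht
  rcases hq1 with ⟨q1, q2⟩ | ⟨q1, q2⟩ <;> rcases hq2 with ⟨q3, q4⟩ | ⟨q3, q4⟩
  · -- two hyperbolic planes
    refine false_planes h hF hR hV hT hc (u := e' + f') (v := e' + x' + y') (u' := x' + y')
      (v' := x' + e' + f') (fun t ht => ⟨?_, ?_, ?_, ?_⟩) ?_ ?_ ?_ ?_ ?_ ?_ ?_ ?_ ?_ ?_ <;>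
    simp only [h.q_add', map_add, LinearMap.add_apply, h.b_self, q1, q2, q3, q4, bef', bfe', bxy', byx',
      k1, k2, k3, k4, g5, g6, g7, g8] <;>
    first | decide | simp only [m1 t ht, m2 t ht, m3 t ht, m4 t ht, add_zero]
  · refine false_chain h hF hR hV hT hc
      (chain_of q1 q2 q3 q4 bef' bxy' k1 k2 k3 k4) (fun t ht => ⟨?_, ?_, m8 t ht, m7 t ht⟩)
    · rw [map_add, LinearMap.add_apply, m5 t ht, m6 t ht, add_zero]
    · rw [map_add, LinearMap.add_apply, m5 t ht, m7 t ht, add_zero]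
  · refine false_chain h hF hR hV hT hc
      (chain_of q3 q4 q1 q2 bxy' bef' g5 g7 g6 g8) (fun t ht => ⟨?_, ?_, m6 t ht, m5 t ht⟩)
    · rw [map_add, LinearMap.add_apply, m7 t ht, m8 t ht, add_zero]
    · rw [map_add, LinearMap.add_apply, m7 t ht, m5 t ht, add_zero]
  · exact false_planes h hF hR hV hT hc (fun t ht => ⟨m1 t ht, m2 t ht, m3 t ht, m4 t ht⟩) q1 q2 bef'
      q3 q4 bxy' k1 k2 k3 k4

/-- all widths at least 5 -/
theorem false_of_card (n : ℕ) (hn : 5 ≤ n) : ∀ (G : Type u) [Group G] [Finite G] (Q : Subgroup G)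
    (z : G) (h : Large Q z), Fus Q z → RR h → Nat.card h.V = 4 ^ n → False := by
  induction n, hn using Nat.le_induction with
  | base =>
    intro G _ _ Q z h hF hR hV
    exact false_ten h hF hR (by rw [hV]; norm_num)
  | succ n hn ih =>
    intro G _ _ Q z h hF hR hV
    have h1024 : 4 ^ 5 ≤ 4 ^ n := Nat.pow_le_pow_right (by norm_num) hn
    obtain ⟨u, v, qu, qv, buv⟩ := exists_aniso h (by rw [hV, pow_succ]; omega)
    obtain ⟨G1, i1, i2, Q1, z1, h1, j1, hF1, hR1, hj1, q1, bb1, hP1⟩ := red_two h hF hR qu qv buv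
    have c1 := card_two j1 hj1 buv hP1
    apply ih G1 Q1 z1 h1 hF1 hR1
    rw [hV, pow_succ] at c1
    omega

end kill

/-- **`|D̃| = 2` is impossible in width at least 5.** -/
theorem false_of_pair {G : Type*} [Group G] [Finite G] {Q A : Subgroup G} {z a : G} (p : Pair Q z A a)
    (hO : O2 p.lz) (hw : 2 ^ 11 ≤ Nat.card Q) (hD : Nat.card p.D = 2) : False := by
  have hV : 1024 ≤ Nat.card p.lz.V := by
    have h1 := p.lz.card_eq
    omega
  have hfd := Dickson.finiteDim p.lz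
  obtain ⟨m, hm⟩ := Dickson.even_finrank p.lz
  have hc : Nat.card p.lz.V = 4 ^ m := by
    rw [Module.natCard_eq_pow_finrank (K := ZMod 2) (V := p.lz.V), Nat.card_zmod, hm, pow_add,
      ← mul_pow]
    norm_num
  have hm5 : 5 ≤ m := by
    by_contra hcon
    have h1 : 4 ^ m ≤ 4 ^ 4 := Nat.pow_le_pow_right (by norm_num) (by omega)
    rw [← hc] at h1
    omega
  refine false_of_card m hm5 G Q z p.lz ?_ ?_ hc
  · exact KOne.fus_of_trans p hD fun x hx hxx hx1 hxz =>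
      exists_conj_G p hO hD (by omega) hx hxx hx1 hxz
  · intro u v qu qv
    have qu' : qf p.lz u ≠ 0 := by show p.lz.q u ≠ 0; rw [qu]; decide
    have qv' : qf p.lz v ≠ 0 := by show p.lz.q v ≠ 0; rw [qv]; decide
    have hmem : refl (qf p.lz) u qu' *
        refl (qf p.lz) v qv' ∈ p.H := by
      apply E_le_H p hO hD (by omega)
      apply (SixMinus.good_qf p.lz (by omega)).refl_mul_refl_mem
      show p.lz.q v = p.lz.q u
      rw [qu, qv]
    obtain ⟨c, hcc⟩ := hmem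
    refine ⟨c, fun x => ?_⟩
    have e : p.lz.act c x = refl (qf p.lz) u qu'
        (refl (qf p.lz) v qv' x) := by
      have := congrArg (fun g : p.lz.V ≃ₗ[ZMod 2] p.lz.V => g x) hcc
      exact this
    rw [e, SixMinus.refl_qf, SixMinus.refl_qf]
    rfl

end Cfsg.Agent.LargeExtra.TwoA

end
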